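import Mathlib

/-!
Fields generated by a root of unity of prime order, and invariant alternating pairings on them.
-/

set_option autoImplicit false
set_option linter.unusedSectionVars false

namespace CfsgLib.MaxSchmidt

variable {p q a : ℕ} [Fact p.Prime] [Fact q.Prime]

/-- The additive exponent of the largest Frattini subgroup. -/
def extra (a : ℕ) : ℕ := if a % 2 = 1 then 0 else a / 2

theorem order_pos (hpq : p ≠ q) (ha : a = orderOf (p : ZMod q)) : 0 < a := by
  rw [ha]
  refine orderOf_pos_iff.mpr (IsUnit.isOfFinOrder ?_)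
  rw [isUnit_iff_ne_zero, Ne, ZMod.natCast_eq_zero_iff]
  exact fun h => hpq ((Nat.prime_dvd_prime_iff_eq Fact.out Fact.out).mp h).symm

theorem dvd_of_dvd_pred (ha : a = orderOf (p : ZMod q)) {k : ℕ} (h : q ∣ p ^ k - 1) : a ∣ k := by
  rw [ha]
  refine orderOf_dvd_of_pow_eq_one ?_
  have h1 : 1 ≤ p ^ k := Nat.one_le_pow _ _ (Fact.out : p.Prime).pos
  rw [← Nat.cast_pow, ← Nat.sub_add_cancel h1, Nat.cast_add, (ZMod.natCast_eq_zero_iff _ _).mpr h,
    zero_add, Nat.cast_one]

theorem pow_half (hq2 : q ≠ 2) (ha : a = orderOf (p : ZMod q)) {k : ℕ} (hk : a = k + k) (hk0 : k ≠ 0) :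
    q ∣ p ^ k + 1 := by
  have h1 : (p : ZMod q) ^ k * (p : ZMod q) ^ k = 1 := by rw [← pow_add, ← hk, ha, pow_orderOf_eq_one]
  rcases mul_self_eq_one_iff.mp h1 with h | h
  · have h2 : a ∣ k := ha ▸ orderOf_dvd_of_pow_eq_one h
    have := Nat.le_of_dvd (Nat.pos_of_ne_zero hk0) h2
    omega
  · rw [← ZMod.natCast_eq_zero_iff, Nat.cast_add, Nat.cast_pow, Nat.cast_one, h, neg_add_cancel]

variable {F : Type*} [Field F] [Finite F] [CharP F p] {ζ : F}

/-- The powers of `ζ` span. -/
theorem closure_powers (hζ : orderOf ζ = q) (ha : a = orderOf (p : ZMod q)) (ha0 : 0 < a)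
    (hF : Nat.card F = p ^ a) : AddSubgroup.closure (Set.range fun n : ℕ => ζ ^ n) = ⊤ := by
  classical
  set S := AddSubgroup.closure (Set.range fun n : ℕ => ζ ^ n) with hS
  have hone : (1 : F) ∈ S := AddSubgroup.subset_closure ⟨0, pow_zero ζ⟩
  have hmul : ∀ x ∈ S, ∀ y ∈ S, x * y ∈ S := by
    intro x hx y hy
    induction hx using AddSubgroup.closure_induction with
    | mem u hu =>
      induction hy using AddSubgroup.closure_induction with
      | mem v hv =>
        obtain ⟨m, rfl⟩ := hu
        obtain ⟨n, rfl⟩ := hv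
        exact AddSubgroup.subset_closure ⟨m + n, pow_add ζ m n⟩
      | zero => rw [mul_zero]; exact S.zero_mem
      | add v w _ _ hv hw => rw [mul_add]; exact S.add_mem hv hw
      | neg v _ hv => rw [mul_neg]; exact S.neg_mem hv
    | zero => rw [zero_mul]; exact S.zero_mem
    | add u w _ _ hu hw => rw [add_mul]; exact S.add_mem hu hw
    | neg u _ hu => rw [neg_mul]; exact S.neg_mem hu
  let M : Submonoid Fˣ :=
    { carrier := {u | (u : F) ∈ S}
      one_mem' := by simpa using hone
      mul_mem' := fun {u v} hu hv => by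
        show ((u * v : Fˣ) : F) ∈ S
        rw [Units.val_mul]
        exact hmul _ hu _ hv }
  let T : Subgroup Fˣ :=
    { M with
      inv_mem' := fun {u} hu => by
        show u⁻¹ ∈ M
        obtain ⟨n, hn⟩ := (mem_zpowers_iff_mem_range_orderOf.mp (inv_mem (Subgroup.mem_zpowers u)) :
          u⁻¹ ∈ (Finset.range (orderOf u)).image (u ^ ·)) |> Finset.mem_image.mp
        rw [← hn.2]
        exact M.pow_mem hu n }
  have hcard : Nat.card T + 1 = Nat.card S := by
    let f : Option T → S := fun o => o.elim 0 fun u => ⟨(u.1 : F), u.2⟩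
    have hf : Function.Bijective f := by
      refine ⟨?_, fun s => ?_⟩
      · rintro (_ | u) (_ | v) h
        · rfl
        · exact absurd (congrArg Subtype.val h).symm v.1.ne_zero
        · exact absurd (congrArg Subtype.val h) u.1.ne_zero
        · exact congrArg some (Subtype.ext (Units.ext (congrArg Subtype.val h)))
      · by_cases hs : (s : F) = 0
        · exact ⟨none, Subtype.ext hs.symm⟩
        · exact ⟨some ⟨Units.mk0 (s : F) hs, s.2⟩, rfl⟩
    haveI := Fintype.ofFinite T
    rw [← Nat.card_congr (Equiv.ofBijective f hf), Nat.card_eq_fintype_card, Nat.card_eq_fintype_card,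
      Fintype.card_option]
  have hζ0 : ζ ≠ 0 := fun h => by
    rw [h, orderOf_zero] at hζ
    exact (Fact.out : q.Prime).ne_zero hζ.symm
  have hqT : q ∣ Nat.card T := by
    have hmem : Units.mk0 ζ hζ0 ∈ T := AddSubgroup.subset_closure ⟨1, pow_one ζ⟩
    rw [← hζ, show orderOf ζ = orderOf (Units.mk0 ζ hζ0) by rw [← orderOf_units]; rfl]
    exact Subgroup.orderOf_dvd_natCard T hmem
  obtain ⟨k, hka, hk⟩ := (Nat.dvd_prime_pow (Fact.out : p.Prime)).mp (hF ▸ S.card_addSubgroup_dvd_card)
  have hk1 : a ∣ k := dvd_of_dvd_pred ha (by rwa [← hk, ← hcard, Nat.add_sub_cancel])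
  have hk0 : 0 < k := by
    rcases Nat.eq_zero_or_pos k with rfl | h
    · have := (Nat.card_pos : 0 < Nat.card T)
      rw [pow_zero] at hk
      omega
    · exact h
  refine AddSubgroup.eq_top_of_le_card S ?_
  rw [hF, hk]
  exact Nat.pow_le_pow_right (Fact.out : p.Prime).pos (Nat.le_of_dvd hk0 hk1)

theorem induction_powers (hζ : orderOf ζ = q) (ha : a = orderOf (p : ZMod q)) (ha0 : 0 < a)
    (hF : Nat.card F = p ^ a) {P : F → Prop} (h0 : ∀ n : ℕ, P (ζ ^ n)) (hz : P 0)
    (hadd : ∀ x y, P x → P y → P (x + y)) (hneg : ∀ x, P x → P (-x)) (x : F) : P x := by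
  have hx : x ∈ AddSubgroup.closure (Set.range fun n : ℕ => ζ ^ n) :=
    (closure_powers hζ ha ha0 hF) ▸ AddSubgroup.mem_top x
  induction hx using AddSubgroup.closure_induction with
  | mem u hu => obtain ⟨n, rfl⟩ := hu; exact h0 n
  | zero => exact hz
  | add u v _ _ hu hv => exact hadd u v hu hv
  | neg u _ hu => exact hneg u hu

variable {Φ : Type*} [AddCommGroup Φ] [Finite Φ]

/-- Invariant alternating pairings generate little. -/
theorem pairing_bound (hζ : orderOf ζ = q) (ha : a = orderOf (p : ZMod q)) (ha0 : 0 < a) (hF : Nat.card F = p ^ a)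
    (β : F →+ F →+ Φ) (halt : ∀ x, β x x = 0) (hinv : ∀ x y, β (ζ * x) (ζ * y) = β x y)
    (hgen : AddSubgroup.closure (Set.range fun z : F × F => β z.1 z.2) = ⊤) : Nat.card Φ ≤ p ^ extra a := by
  classical
  have hinvn : ∀ (n : ℕ) x y, β (ζ ^ n * x) (ζ ^ n * y) = β x y := by
    intro n
    induction n with
    | zero => intro x y; rw [pow_zero, one_mul, one_mul]
    | succ n ih => intro x y; rw [pow_succ', mul_assoc, mul_assoc, hinv, ih]
  have hzero : (∀ x y, β x y = 0) → Nat.card Φ ≤ p ^ extra a := fun h => by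
    have hbot : (⊤ : AddSubgroup Φ) = ⊥ := by
      rw [← hgen, AddSubgroup.closure_eq_bot_iff]
      rintro _ ⟨z, rfl⟩
      exact h _ _
    have h1 := congrArg (fun S : AddSubgroup Φ => Nat.card S) hbot
    simp only [AddSubgroup.card_top, AddSubgroup.card_bot] at h1
    rw [h1]
    exact Nat.one_le_pow _ _ (Fact.out : p.Prime).pos
  rcases Nat.even_or_odd a with ⟨k, hk⟩ | hodd
  · -- Hermitian case
    have hk0 : k ≠ 0 := by omega
    have hq2 : q ≠ 2 := fun h => by
      subst h
      have h1 : (p : ZMod 2) = 0 ∨ (p : ZMod 2) = 1 := by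
        generalize (p : ZMod 2) = u
        fin_cases u
        · exact Or.inl rfl
        · exact Or.inr rfl
      rcases h1 with h1 | h1 <;> rw [h1] at ha
      · rw [orderOf_zero] at ha; omega
      · rw [orderOf_one] at ha; omega
    set σ := iterateFrobenius F p k with hσ
    have hσζ : σ ζ * ζ = 1 := by
      rw [hσ, iterateFrobenius_def, ← pow_succ, ← orderOf_dvd_iff_pow_eq_one, hζ]
      exact pow_half hq2 ha hk hk0
    have hσn : ∀ n : ℕ, σ (ζ ^ n) * ζ ^ n = 1 := fun n => by rw [map_pow, ← mul_pow, hσζ, one_pow]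
    let g : F →+ Φ := β.flip 1
    have hg : ∀ x, g x = β x 1 := fun x => rfl
    have hβ : ∀ x y, β x y = g (x * σ y) := fun x y => by
      induction y using induction_powers hζ ha ha0 hF with
      | h0 n =>
        rw [hg, ← hinvn n (x * σ (ζ ^ n)) 1, mul_one]
        congr 2
        rw [mul_left_comm, mul_comm (ζ ^ n), hσn, mul_one]
      | hz => simp
      | hadd u v hu hv => rw [map_add, map_add, mul_add, map_add, hu, hv]
      | hneg u hu => rw [map_neg, map_neg, mul_neg, map_neg, hu]
    have hrange : g.range = ⊤ := by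
      rw [eq_top_iff, ← hgen, AddSubgroup.closure_le]
      rintro _ ⟨z, rfl⟩
      exact ⟨_, (hβ z.1 z.2).symm⟩
    -- the kernel contains all norms
    let N : Fˣ →* Fˣ := powMonoidHom (p ^ k + 1)
    have hNker : ∀ u : Fˣ, ((N u : Fˣ) : F) ∈ g.ker := fun u => by
      rw [AddMonoidHom.mem_ker]
      show g (((u ^ (p ^ k + 1) : Fˣ)) : F) = 0
      rw [Units.val_pow_eq_pow_val, pow_succ', ← iterateFrobenius_def, ← hβ]
      exact halt _
    have hkerN : Nat.card N.ker ≤ p ^ k + 1 := by
      haveI := Fintype.ofFinite Fˣ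
      refine le_trans (le_of_eq ?_) (IsCyclic.card_pow_eq_one_le (α := Fˣ) (Nat.succ_pos (p ^ k)))
      rw [← Fintype.card_subtype, ← Nat.card_eq_fintype_card]
      exact Nat.card_congr (Equiv.subtypeEquivRight fun u => Iff.rfl)
    have hrangeN : p ^ k ≤ Nat.card N.range + 1 := by
      have h1 := N.ker.index_mul_card
      rw [Subgroup.index_ker, Nat.card_units, hF] at h1
      have h2 : Nat.card N.range * Nat.card N.ker ≤ Nat.card N.range * (p ^ k + 1) := Nat.mul_le_mul_left _ hkerN
      rw [h1, hk, pow_add] at h2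
      have h3 : 1 ≤ p ^ k := Nat.one_le_pow _ _ (Fact.out : p.Prime).pos
      by_contra hlt
      obtain ⟨d, hd⟩ : ∃ d, p ^ k = Nat.card N.range + 2 + d := ⟨p ^ k - Nat.card N.range - 2, by omega⟩
      rw [hd] at h2
      have h4 : (Nat.card N.range + 2 + d) * (Nat.card N.range + 2 + d) ≤
          Nat.card N.range * (Nat.card N.range + 2 + d + 1) + 1 := by omega
      nlinarith
    have hker : p ^ k ≤ Nat.card g.ker := by
      refine hrangeN.trans ?_
      let f : Option N.range → g.ker := fun o => o.elim 0 fun u => ⟨(u.1 : F), by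
        obtain ⟨v, hv⟩ := u.2
        rw [← hv]
        exact hNker v⟩
      haveI := Fintype.ofFinite N.range
      have h1 := Nat.card_le_card_of_injective f (by
        rintro (_ | u) (_ | v) h
        · rfl
        · exact absurd (congrArg Subtype.val h).symm v.1.ne_zero
        · exact absurd (congrArg Subtype.val h) u.1.ne_zero
        · exact congrArg some (Subtype.ext (Units.ext (congrArg Subtype.val h))))
      rwa [Nat.card_eq_fintype_card, Fintype.card_option, ← Nat.card_eq_fintype_card] at h1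
    have h1 := g.ker.index_mul_card
    rw [AddSubgroup.index_ker, hF, hrange, AddSubgroup.card_top, hk, pow_add] at h1
    have h2 : Nat.card Φ * p ^ k ≤ p ^ k * p ^ k := h1 ▸ Nat.mul_le_mul_left _ hker
    have h3 : extra a = k := by unfold extra; split <;> omega
    rw [h3]
    exact Nat.le_of_mul_le_mul_right h2 (Nat.pow_pos (Fact.out : p.Prime).pos)
  · refine hzero ?_
    by_cases hq2 : q = 2
    · subst hq2
      have hζ1 : ζ ^ 2 = 1 := hζ ▸ pow_orderOf_eq_one ζ
      have hint : ∀ x : F, ∃ m : ℤ, x = m • (1 : F) := fun x => by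
        have hz : ζ = -1 := (mul_self_eq_one_iff.mp (by rw [← pow_two]; exact hζ1)).resolve_left fun h => by
          rw [h, orderOf_one] at hζ; omega
        induction x using induction_powers hζ ha ha0 hF with
        | h0 n =>
          refine ⟨(-1) ^ n, ?_⟩
          rw [zsmul_one, Int.cast_pow, Int.cast_neg, Int.cast_one, hz]
        | hz => exact ⟨0, (zero_zsmul _).symm⟩
        | hadd u v hu hv =>
          obtain ⟨m, rfl⟩ := hu
          obtain ⟨n, rfl⟩ := hv
          exact ⟨m + n, (add_zsmul _ _ _).symm⟩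
        | hneg u hu => obtain ⟨m, rfl⟩ := hu; exact ⟨-m, (neg_zsmul _ _).symm⟩
      intro x y
      obtain ⟨m, rfl⟩ := hint x
      obtain ⟨n, rfl⟩ := hint y
      simp only [map_zsmul, AddMonoidHom.coe_smul, Pi.smul_apply, halt, smul_zero]
    -- no automorphism inverts `ζ`
    let R : F → F → Prop := fun u v => ∀ x y, β (u * x) y = β x (v * y)
    have hex : ∀ u, ∃ v, R u v := fun u => by
      induction u using induction_powers hζ ha ha0 hF with
      | h0 n =>
        refine ⟨(ζ ^ n)⁻¹, fun x y => ?_⟩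
        have hn : ζ ^ n ≠ 0 := pow_ne_zero _ fun h => by
          rw [h, orderOf_zero] at hζ; exact (Fact.out : q.Prime).ne_zero hζ.symm
        conv_lhs => rw [← mul_inv_cancel_left₀ hn y]
        exact hinvn n x _
      | hz => exact ⟨0, fun x y => by simp⟩
      | hadd u v hu hv =>
        obtain ⟨s, hs⟩ := hu
        obtain ⟨t, ht⟩ := hv
        exact ⟨s + t, fun x y => by rw [add_mul, map_add, AddMonoidHom.add_apply, hs, ht, add_mul, map_add]⟩
      | hneg u hu =>
        obtain ⟨s, hs⟩ := hu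
        exact ⟨-s, fun x y => by rw [neg_mul, map_neg, AddMonoidHom.neg_apply, hs, neg_mul, map_neg]⟩
    by_contra hne
    push Not at hne
    obtain ⟨x₀, y₀, hxy⟩ := hne
    have huniq : ∀ u v v', R u v → R u v' → v = v' := fun u v v' h h' => by
      by_contra hvv
      refine hxy ?_
      have h1 := h x₀ ((v - v')⁻¹ * y₀)
      have h2 := h' x₀ ((v - v')⁻¹ * y₀)
      have h3 : β x₀ ((v - v') * ((v - v')⁻¹ * y₀)) = 0 := by rw [sub_mul, map_sub, ← h1, ← h2, sub_self]
      rwa [mul_inv_cancel_left₀ (sub_ne_zero.mpr hvv)] at h3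
    choose τ hτ using hex
    let τh : F →+* F :=
      { toFun := τ
        map_one' := huniq 1 _ _ (hτ 1) (fun x y => by rw [one_mul, one_mul])
        map_mul' := fun u v => huniq _ _ _ (hτ (u * v)) (fun x y => by
          rw [mul_assoc, hτ u, hτ v, mul_comm (τ u) (τ v), mul_assoc])
        map_zero' := huniq 0 _ _ (hτ 0) (fun x y => by simp)
        map_add' := fun u v => huniq _ _ _ (hτ (u + v)) (fun x y => by
          rw [add_mul, map_add, AddMonoidHom.add_apply, hτ u, hτ v, add_mul, map_add]) }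
    have hζ0 : ζ ≠ 0 := fun h => by rw [h, orderOf_zero] at hζ; exact (Fact.out : q.Prime).ne_zero hζ.symm
    have hτζ : τh ζ = ζ⁻¹ := huniq ζ _ _ (hτ ζ) (fun x y => by
      conv_lhs => rw [← mul_inv_cancel_left₀ hζ0 y]
      exact hinv x _)
    letI := ZMod.algebra F p
    haveI := Fintype.ofFinite F
    let τl : F →ₐ[ZMod p] F := AlgHom.mk τh (fun r => by
      obtain ⟨n, rfl⟩ := ZMod.intCast_surjective r
      simp)
    let τa : F ≃ₐ[ZMod p] F := AlgEquiv.ofBijective τl (Finite.injective_iff_bijective.mp τh.injective)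
    obtain ⟨j, hj⟩ := (FiniteField.bijective_frobeniusAlgEquivOfAlgebraic_pow (ZMod p) F).2 τa
    have h1 := congrArg (fun f : F ≃ₐ[ZMod p] F => f ζ) hj
    simp only [AlgEquiv.coe_pow, FiniteField.coe_frobeniusAlgEquivOfAlgebraic_iterate, ZMod.card] at h1
    have h2 : ζ ^ (p ^ (j : ℕ) + 1) = 1 := by
      rw [pow_succ, h1, show τa ζ = τh ζ from rfl, hτζ, inv_mul_cancel₀ hζ0]
    rw [← orderOf_dvd_iff_pow_eq_one, hζ, ← ZMod.natCast_eq_zero_iff, Nat.cast_add, Nat.cast_pow, Nat.cast_one,
      add_eq_zero_iff_eq_neg] at h2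
    have h3 : a ∣ 2 * (j : ℕ) := ha ▸ orderOf_dvd_of_pow_eq_one (by rw [mul_comm, pow_mul, h2]; norm_num)
    have h4 : a ∣ (j : ℕ) :=
      (Nat.coprime_two_right.mpr hodd).dvd_of_dvd_mul_left h3
    have h5 : (p : ZMod q) ^ (j : ℕ) = 1 := orderOf_dvd_iff_pow_eq_one.mp (ha ▸ h4)
    rw [h2] at h5
    have h6 : ((2 : ℕ) : ZMod q) = 0 := by push_cast; linear_combination -h5
    exact hq2 ((Nat.prime_dvd_prime_iff_eq Fact.out Nat.prime_two).mp ((ZMod.natCast_eq_zero_iff _ _).mp h6))

end CfsgLib.MaxSchmidt
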