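import Mathlib
import Cfsg.Agent.Lib.MaxSchmidt.Field

/-!
An irreducible automorphism of prime order of an elementary abelian group is a scalar in a field.
-/

set_option autoImplicit false
set_option linter.unusedSectionVars false

namespace CfsgLib.MaxSchmidt

variable {p q a : ℕ} [Fact p.Prime] [Fact q.Prime]
variable {F : Type*} [Field F] [Finite F] [CharP F p] {ζ : F}
variable {W : Type*} [AddCommGroup W] [Finite W] [Nontrivial W]

theorem exists_field_equiv (hζ : orderOf ζ = q) (ha : a = orderOf (p : ZMod q)) (ha0 : 0 < a)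
    (hF : Nat.card F = p ^ a) (γ : AddMonoid.End W) (hγq : γ ^ q = 1) (hγ : γ ≠ 1) (hp : ∀ w : W, p • w = 0)
    (hirr : ∀ S : AddSubgroup W, (∀ x ∈ S, γ x ∈ S) → S = ⊥ ∨ S = ⊤) :
    ∃ (j : ℕ) (e : F ≃+ W), ¬ q ∣ j ∧ ∀ x, e (ζ * x) = (γ ^ j) (e x) := by
  classical
  obtain ⟨w, hw⟩ := exists_ne (0 : W)
  set R : Subring (AddMonoid.End W) := Subring.closure {γ} with hR
  letI : CommRing R := Subring.closureCommRingOfComm (fun x hx y hy => by
    rw [Set.mem_singleton_iff] at hx hy; rw [hx, hy])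
  have hγR : γ ∈ R := Subring.subset_closure (Set.mem_singleton γ)
  let g : R := ⟨γ, hγR⟩
  have happ : ∀ (f h : R) x, ((f * h : R) : AddMonoid.End W) x = (f : AddMonoid.End W) ((h : AddMonoid.End W) x) :=
    fun f h x => rfl
  have hcomm : ∀ (f : R) x, (f : AddMonoid.End W) (γ x) = γ ((f : AddMonoid.End W) x) := fun f x => by
    rw [show (f : AddMonoid.End W) (γ x) = ((f * g : R) : AddMonoid.End W) x from (happ f g x).symm, mul_comm f g]
    rfl
  have hinj : ∀ f : R, f ≠ 0 → ∀ x, (f : AddMonoid.End W) x = 0 → x = 0 := by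
    intro f hf x hx
    rcases hirr (f : AddMonoid.End W).ker (fun y hy => by
      replace hy : (f : AddMonoid.End W) y = 0 := hy
      show (f : AddMonoid.End W) (γ y) = 0
      rw [hcomm, hy, map_zero]) with h | h
    · have : x ∈ (f : AddMonoid.End W).ker := hx
      rw [h] at this
      exact AddSubgroup.mem_bot.mp this
    · refine absurd (Subtype.ext (AddMonoidHom.ext fun y => ?_)) hf
      have : y ∈ (f : AddMonoid.End W).ker := h ▸ AddSubgroup.mem_top y
      exact this
  haveI : Nontrivial R := ⟨⟨1, 0, fun h => hw (by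
    have h1 := congrArg (fun f : R => (f : AddMonoid.End W) w) h
    exact h1)⟩⟩
  haveI : NoZeroDivisors R := ⟨fun {f h} hfh => by
    by_contra hcon
    push Not at hcon
    refine hcon.2 (Subtype.ext (AddMonoidHom.ext fun y => hinj f hcon.1 _ ?_))
    exact (happ f h y).symm.trans (congrArg (fun t : R => (t : AddMonoid.End W) y) hfh)⟩
  haveI : IsDomain R := NoZeroDivisors.to_isDomain R
  haveI : Finite (AddMonoid.End W) := Finite.of_injective (fun f : AddMonoid.End W => (f : W → W))
    DFunLike.coe_injective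
  letI : Fintype R := Fintype.ofFinite R
  letI : Field R := (Finite.isDomain_to_isField R).toField
  haveI : CharP R p := by
    refine (CharP.charP_iff_prime_eq_zero (Fact.out : p.Prime)).mpr (Subtype.ext ?_)
    refine AddMonoidHom.ext fun x => ?_
    show ((p : R) : AddMonoid.End W) x = 0
    rw [SubringClass.coe_natCast, AddMonoid.End.natCast_apply, hp]
  -- evaluation at the vector is bijective
  let ev : R →+ W := AddMonoidHom.mk' (fun f => (f : AddMonoid.End W) w) fun f h => rfl
  have hevinj : Function.Injective ev := by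
    refine (injective_iff_map_eq_zero ev).mpr fun f hf => ?_
    by_contra hne
    exact hw (hinj f hne w hf)
  have hevsurj : Function.Surjective ev := by
    rw [← AddMonoidHom.range_eq_top]
    rcases hirr ev.range (fun x ⟨f, hf⟩ => ⟨g * f, by show γ (ev f) = _; rw [hf]⟩) with h | h
    · exfalso
      have : ev 1 ∈ ev.range := ⟨1, rfl⟩
      rw [h] at this
      exact hw (AddSubgroup.mem_bot.mp this)
    · exact h
  -- the field has `p ^ a` elements
  have hg : orderOf g = q := by
    refine orderOf_eq_prime (Subtype.ext (by rw [SubmonoidClass.coe_pow]; exact hγq)) fun h => hγ ?_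
    exact congrArg Subtype.val h
  haveI : Fact p.Prime := inferInstance
  obtain ⟨n, hn, hcard⟩ := FiniteField.card R p
  have hg0 : g ≠ 0 := fun h => by
    rw [h, orderOf_zero] at hg
    exact (Fact.out : q.Prime).ne_zero hg.symm
  have hqn : q ∣ p ^ (n : ℕ) - 1 := by
    rw [← hcard, ← hg, orderOf_dvd_iff_pow_eq_one]
    exact FiniteField.pow_card_sub_one_eq_one g hg0
  have hfix : g ^ p ^ a = g := by
    have h1 : ((p : ZMod q)) ^ a = 1 := by rw [ha, pow_orderOf_eq_one]
    rw [← Nat.cast_pow, ← Nat.cast_one, ZMod.natCast_eq_natCast_iff'] at h1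
    rw [← pow_mod_orderOf, hg, h1, Nat.one_mod_eq_one.mpr (Fact.out : q.Prime).ne_one, pow_one]
  have hall : ∀ f : R, f ^ p ^ a = f := by
    have hsub : ∀ (f : AddMonoid.End W) (hf : f ∈ R), (⟨f, hf⟩ : R) ^ p ^ a = ⟨f, hf⟩ := by
      intro f hf
      induction hf using Subring.closure_induction with
      | mem x hx => rw [Set.mem_singleton_iff] at hx; subst hx; exact hfix
      | zero => exact zero_pow (pow_ne_zero _ (Fact.out : p.Prime).ne_zero)
      | one => exact one_pow _
      | add x y hx hy h1 h2 =>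
        show ((⟨x, hx⟩ : R) + ⟨y, hy⟩) ^ p ^ a = ⟨x, hx⟩ + ⟨y, hy⟩
        rw [add_pow_char_pow, h1, h2]
      | neg x hx h1 =>
        show (-(⟨x, hx⟩ : R)) ^ p ^ a = -⟨x, hx⟩
        have h2 : iterateFrobenius R p a (-⟨x, hx⟩) = -iterateFrobenius R p a ⟨x, hx⟩ := map_neg _ _
        rw [iterateFrobenius_def, iterateFrobenius_def, h1] at h2
        exact h2
      | mul x y hx hy h1 h2 =>
        show ((⟨x, hx⟩ : R) * ⟨y, hy⟩) ^ p ^ a = ⟨x, hx⟩ * ⟨y, hy⟩
        rw [mul_pow, h1, h2]
    exact fun f => hsub f.1 f.2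
  have hle : Fintype.card R ≤ p ^ a := by
    have h1 : (Finset.univ : Finset R) ⊆ (Polynomial.X ^ (p ^ a) - Polynomial.X : Polynomial R).roots.toFinset := by
      intro f _
      rw [Multiset.mem_toFinset, Polynomial.mem_roots']
      refine ⟨FiniteField.X_pow_card_pow_sub_X_ne_zero R ha0.ne' (Fact.out : p.Prime).one_lt, ?_⟩
      simp [hall f]
    refine (Finset.card_le_card h1).trans ((Multiset.toFinset_card_le _).trans ?_)
    refine (Polynomial.card_roots' _).trans (le_of_eq ?_)
    exact FiniteField.X_pow_card_pow_sub_X_natDegree_eq R ha0.ne' (Fact.out : p.Prime).one_lt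
  have hna : (n : ℕ) = a :=
    le_antisymm ((Nat.pow_le_pow_iff_right (Fact.out : p.Prime).one_lt).mp (hcard ▸ hle))
      (Nat.le_of_dvd n.2 (dvd_of_dvd_pred ha hqn))
  letI : Fintype F := Fintype.ofFinite F
  let ι : F ≃+* R := FiniteField.ringEquivOfCardEq (by rw [← Nat.card_eq_fintype_card, hF, hcard, hna])
  have hιζ : orderOf (ι ζ) = q := by
    rw [show ι ζ = ι.toMulEquiv ζ from rfl, MulEquiv.orderOf_eq, hζ]
  have hprim : IsPrimitiveRoot g q := hg ▸ IsPrimitiveRoot.orderOf g
  obtain ⟨j, _, hj⟩ := hprim.eq_pow_of_pow_eq_one (hιζ ▸ pow_orderOf_eq_one (ι ζ))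
  refine ⟨j, ι.toAddEquiv.trans (AddEquiv.ofBijective ev ⟨hevinj, hevsurj⟩), fun hdvd => ?_, fun x => ?_⟩
  · obtain ⟨m, rfl⟩ := hdvd
    rw [← hj, pow_mul, ← hg, pow_orderOf_eq_one, one_pow, orderOf_one] at hιζ
    exact (Fact.out : q.Prime).ne_one (hιζ.trans hg).symm
  · show ev (ι (ζ * x)) = (γ ^ j) (ev (ι x))
    rw [map_mul, ← hj]
    rfl

end CfsgLib.MaxSchmidt
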