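import Mathlib
import Cfsg.Agent.Lib.MaxSchmidt.Field

/-!
The models of maximal order of minimal non-nilpotent groups.
-/

set_option autoImplicit false
set_option linter.unusedSectionVars false

namespace CfsgLib.MaxSchmidt

open scoped commutatorElement

/-- The cyclic group of order `n`. -/
abbrev Cyc (n : ℕ) : Type := Multiplicative (ZMod n)

/-- The homomorphism from a cyclic group given by an element. -/
def powHom {H : Type*} [Group H] {n : ℕ} [NeZero n] (g : H) (hg : g ^ n = 1) : Cyc n →* H where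
  toFun m := g ^ (Multiplicative.toAdd m).val
  map_one' := by simp
  map_mul' := fun x y => by
    rw [← pow_add, toAdd_mul, ZMod.val_add]
    conv_rhs => rw [← Nat.mod_add_div ((Multiplicative.toAdd x).val + (Multiplicative.toAdd y).val) n, pow_add,
      pow_mul, hg, one_pow, mul_one]

theorem powHom_apply {H : Type*} [Group H] {n : ℕ} [NeZero n] (g : H) (hg : g ^ n = 1) (m : Cyc n) :
    powHom g hg m = g ^ (Multiplicative.toAdd m).val := rfl

theorem powHom_gen {H : Type*} [Group H] {n : ℕ} [NeZero n] (g : H) (hg : g ^ n = 1) :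
    powHom g hg (Multiplicative.ofAdd 1) = g := by
  rw [powHom_apply, toAdd_ofAdd]
  rcases Nat.lt_or_ge n 2 with h | h
  · obtain rfl : n = 1 := by have := NeZero.ne n; omega
    rw [pow_one] at hg
    rw [hg, one_pow]
  · haveI : Fact (1 < n) := ⟨h⟩
    rw [ZMod.val_one, pow_one]

variable {p q : ℕ} [Fact p.Prime] [Fact q.Prime]

/-- A kernel for the model. -/
structure Kernel (p q a : ℕ) (F : Type*) [Field F] (ζ : F) (P : Type*) [Group P] where
  pr : P →* Multiplicative F
  pr_surj : Function.Surjective pr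
  act : MulAut P
  act_pow : act ^ q = 1
  pr_act : ∀ u, pr (act u) = Multiplicative.ofAdd (ζ * Multiplicative.toAdd (pr u))
  ker_central : pr.ker ≤ Subgroup.center P
  act_ker : ∀ z ∈ pr.ker, act z = z
  ker_comm : pr.ker ≤ commutator P
  card_eq : Nat.card P = p ^ (a + extra a)

universe v

variable {a : ℕ} {F : Type v} [Field F] [Finite F] [CharP F p] {ζ : F}

/-- Multiplication by `ζ` as an automorphism. -/
def mulAut (ζ : F) (hζ : ζ ≠ 0) : MulAut (Multiplicative F) :=
  AddEquiv.toMultiplicative (AddEquiv.mk' (Equiv.mulLeft₀ ζ hζ) (fun x y => mul_add ζ x y))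

theorem mulAut_apply (hζ : ζ ≠ 0) (x : Multiplicative F) :
    mulAut ζ hζ x = Multiplicative.ofAdd (ζ * Multiplicative.toAdd x) := rfl

theorem mulAut_pow (hζ : ζ ≠ 0) (n : ℕ) (x : Multiplicative F) :
    (mulAut ζ hζ ^ n) x = Multiplicative.ofAdd (ζ ^ n * Multiplicative.toAdd x) := by
  induction n with
  | zero => simp
  | succ n ih => rw [pow_succ', MulAut.mul_apply, ih, mulAut_apply, toAdd_ofAdd, pow_succ', mul_assoc]

theorem ne_zero_of_order (hζ : orderOf ζ = q) : ζ ≠ 0 := fun h => by
  rw [h, orderOf_zero] at hζ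
  exact (Fact.out : q.Prime).ne_zero hζ.symm

theorem mulAut_pow_q (hζ : orderOf ζ = q) : mulAut ζ (ne_zero_of_order hζ) ^ q = 1 := by
  refine MulEquiv.ext fun x => ?_
  rw [mulAut_pow, ← hζ, pow_orderOf_eq_one, one_mul, ofAdd_toAdd, MulAut.one_apply]

/-- Pairs in the unitary group. -/
def U (σ : F →+* F) : Type _ := {v : F × F // v.2 + σ v.2 = v.1 * σ v.1}

theorem exists_kernel (hpq : p ≠ q) (ha : a = orderOf (p : ZMod q)) (hF : Nat.card F = p ^ a)
    (hζ : orderOf ζ = q) : ∃ (P : Type v) (_ : Group P) (_ : Finite P), Nonempty (Kernel p q a F ζ P) := by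
  classical
  have ha0 := order_pos hpq ha
  have hζ0 := ne_zero_of_order hζ
  rcases Nat.even_or_odd a with ⟨k, hk⟩ | hodd
  swap
  · refine ⟨Multiplicative F, inferInstance, inferInstance,
      ⟨{ pr := MonoidHom.id _
         pr_surj := Function.surjective_id
         act := mulAut ζ hζ0
         act_pow := mulAut_pow_q hζ
         pr_act := fun u => rfl
         ker_central := fun z hz => by rw [show z = 1 from hz]; exact one_mem _
         act_ker := fun z hz => by rw [show z = 1 from hz, map_one]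
         ker_comm := fun z hz => by rw [show z = 1 from hz]; exact one_mem _
         card_eq := ?_ }⟩⟩
    rw [show Nat.card (Multiplicative F) = Nat.card F from rfl, hF, extra, if_pos (Nat.odd_iff.mp hodd)]; rfl
  have hk0 : k ≠ 0 := by omega
  have hq2 : q ≠ 2 := fun h => by
    subst h
    have h1 : (p : ZMod 2) = 0 ∨ (p : ZMod 2) = 1 := by
      generalize (p : ZMod 2) = u
      fin_cases u
      · exact Or.inl rfl
      · exact Or.inr rfl
    rcases h1 with h1 | h1 <;> rw [h1] at ha
    · rw [orderOf_zero] at ha; omega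
    · rw [orderOf_one] at ha; omega
  haveI := Fintype.ofFinite F
  set σ := iterateFrobenius F p k with hσ
  have hσσ : ∀ x, σ (σ x) = x := fun x => by
    rw [hσ, iterateFrobenius_def, iterateFrobenius_def, ← pow_mul, ← pow_add, ← hk, ← hF, Nat.card_eq_fintype_card,
      FiniteField.pow_card]
  have hσζ : σ ζ * ζ = 1 := by
    rw [hσ, iterateFrobenius_def, ← pow_succ, ← orderOf_dvd_iff_pow_eq_one, hζ]
    exact pow_half hq2 ha hk hk0
  obtain ⟨e, he⟩ : ∃ e, e + σ e ≠ 0 := by
    by_contra h
    push Not at h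
    have h1 := h 1
    rw [map_one] at h1
    have h2 := h ζ
    rw [show σ ζ = ζ by linear_combination h2 - ζ * h1] at hσζ
    have := orderOf_dvd_iff_pow_eq_one.mpr (show ζ ^ 2 = 1 by rw [pow_two]; exact hσζ)
    rw [hζ] at this
    exact hq2 ((Nat.prime_dvd_prime_iff_eq Fact.out Nat.prime_two).mp this)
  obtain ⟨w, hw⟩ : ∃ w, w + σ w = 1 := by
    refine ⟨e / (e + σ e), ?_⟩
    rw [map_div₀, map_add, hσσ, add_comm (σ e) e, ← add_div, div_self he]
  letI : Mul (U σ) := ⟨fun u v => ⟨(u.1.1 + v.1.1, u.1.2 + v.1.2 + σ u.1.1 * v.1.1), by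
      simp only [map_add, map_mul, hσσ]
      linear_combination u.2 + v.2⟩⟩
  letI : One (U σ) := ⟨⟨(0, 0), by simp⟩⟩
  letI : Inv (U σ) := ⟨fun u => ⟨(-u.1.1, -u.1.2 + σ u.1.1 * u.1.1), by
      simp only [map_add, map_mul, map_neg, hσσ]
      linear_combination -u.2⟩⟩
  letI : Group (U σ) := Group.ofLeftAxioms
    (fun u v w => Subtype.ext (Prod.ext (add_assoc _ _ _) (by
      show u.1.2 + v.1.2 + σ u.1.1 * v.1.1 + w.1.2 + σ (u.1.1 + v.1.1) * w.1.1 =
        u.1.2 + (v.1.2 + w.1.2 + σ v.1.1 * w.1.1) + σ u.1.1 * (v.1.1 + w.1.1)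
      rw [map_add]; ring)))
    (fun u => Subtype.ext (Prod.ext (zero_add _) (by
      show (0 : F) + u.1.2 + σ 0 * u.1.1 = u.1.2
      simp)))
    (fun u => Subtype.ext (Prod.ext (neg_add_cancel _) (by
      show -u.1.2 + σ u.1.1 * u.1.1 + u.1.2 + σ (-u.1.1) * u.1.1 = 0
      rw [map_neg]; ring)))
  have hmul : ∀ u v : U σ, (u * v).1 = (u.1.1 + v.1.1, u.1.2 + v.1.2 + σ u.1.1 * v.1.1) := fun u v => rfl
  have hinv : ∀ u : U σ, (u⁻¹).1 = (-u.1.1, -u.1.2 + σ u.1.1 * u.1.1) := fun u => rfl
  haveI : Finite (U σ) := Subtype.finite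
  have hpre : ∀ x, (w * (x * σ x)) + σ (w * (x * σ x)) = x * σ x := fun x => by
    simp only [map_mul, hσσ]
    linear_combination (x * σ x) * hw
  let pr : U σ →* Multiplicative F := MonoidHom.mk' (fun u => Multiplicative.ofAdd u.1.1) fun u v => rfl
  have hzero : ∀ u : U σ, u ∈ pr.ker ↔ u.1.1 = 0 := fun u => Iff.rfl
  let K0 : AddSubgroup F :=
    { carrier := {z | z + σ z = 0}
      zero_mem' := by simp
      add_mem' := fun {x y} hx hy => by
        show x + y + σ (x + y) = 0
        rw [map_add]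
        have hm0 : x + σ x = 0 := hx
        have hm1 : y + σ y = 0 := hy
        linear_combination hm0 + hm1
      neg_mem' := fun {x} hx => by
        show -x + σ (-x) = 0
        rw [map_neg]
        have hm0 : x + σ x = 0 := hx
        linear_combination -hm0 }
  let L : AddSubgroup F :=
    { carrier := {z | σ z = z}
      zero_mem' := map_zero σ
      add_mem' := fun {x y} hx hy => by
        show σ (x + y) = x + y
        rw [map_add, show σ x = x from hx, show σ y = y from hy]
      neg_mem' := fun {x} hx => by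
        show σ (-x) = -x
        rw [map_neg, show σ x = x from hx] }
  let d : F →+ F := AddMonoidHom.mk' (fun x => x - σ x) fun x y => by simp only [map_add]; ring
  have hd : d.range = K0 := by
    ext z
    refine ⟨?_, fun hz => ⟨z * w, ?_⟩⟩
    · rintro ⟨x, rfl⟩
      show x - σ x + σ (x - σ x) = 0
      rw [map_sub, hσσ]; ring
    · show z * w - σ (z * w) = z
      rw [map_mul]
      have hm0 : z + σ z = 0 := hz
      linear_combination z * hw - σ w * hm0
  have hdk : d.ker = L := by
    ext x
    exact ⟨fun h => (sub_eq_zero.mp h).symm, fun h => sub_eq_zero.mpr (Eq.symm h)⟩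
  have hprod : Nat.card K0 * Nat.card L = p ^ k * p ^ k := by
    rw [← pow_add, ← hk, ← hF, ← hd, ← hdk, ← AddSubgroup.index_ker, d.ker.index_mul_card]
  obtain ⟨c, hc0, hc⟩ : ∃ c, c ≠ 0 ∧ c + σ c = 0 := by
    refine ⟨ζ - σ ζ, fun h => ?_, ?_⟩
    · rw [← sub_eq_zero.mp h] at hσζ
      have := orderOf_dvd_iff_pow_eq_one.mpr (show ζ ^ 2 = 1 by rw [pow_two]; exact hσζ)
      rw [hζ] at this
      exact hq2 ((Nat.prime_dvd_prime_iff_eq Fact.out Nat.prime_two).mp this)
    · rw [map_sub, hσσ]; ring
  have hKL : Nat.card K0 = Nat.card L := by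
    refine Nat.card_congr
      { toFun := fun z => ⟨z.1 / c, ?_⟩
        invFun := fun l => ⟨l.1 * c, ?_⟩
        left_inv := fun z => Subtype.ext (div_mul_cancel₀ _ hc0)
        right_inv := fun l => Subtype.ext (mul_div_cancel_right₀ _ hc0) }
    · show σ (z.1 / c) = z.1 / c
      have hm0 : z.1 + σ z.1 = 0 := z.2
      rw [map_div₀, show σ c = -c by linear_combination hc,
        show σ z.1 = -z.1 by linear_combination hm0, neg_div_neg_eq]
    · show l.1 * c + σ (l.1 * c) = 0
      rw [map_mul, show σ l.1 = l.1 from l.2]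
      linear_combination l.1 * hc
  have hK0 : Nat.card K0 = p ^ k := by
    rw [← hKL] at hprod
    exact Nat.mul_self_inj.mp hprod
  let act : MulAut (U σ) :=
    { toFun := fun u => ⟨(ζ * u.1.1, u.1.2), by
        simp only [map_mul]
        linear_combination u.2 - u.1.1 * σ u.1.1 * hσζ⟩
      invFun := fun u => ⟨(σ ζ * u.1.1, u.1.2), by
        simp only [map_mul, hσσ]
        linear_combination u.2 - u.1.1 * σ u.1.1 * hσζ⟩
      left_inv := fun u => Subtype.ext (Prod.ext (by linear_combination u.1.1 * hσζ) rfl)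
      right_inv := fun u => Subtype.ext (Prod.ext (by linear_combination u.1.1 * hσζ) rfl)
      map_mul' := fun u v => Subtype.ext (Prod.ext (mul_add _ _ _) (by
        show u.1.2 + v.1.2 + σ u.1.1 * v.1.1 = u.1.2 + v.1.2 + σ (ζ * u.1.1) * (ζ * v.1.1)
        rw [map_mul]
        linear_combination -(σ u.1.1 * v.1.1) * hσζ)) }
  have hact : ∀ (n : ℕ) (u : U σ), ((act ^ n) u).1 = (ζ ^ n * u.1.1, u.1.2) := by
    intro n
    induction n with
    | zero => intro u; simp
    | succ n ih =>
      intro u
      rw [pow_succ', MulAut.mul_apply]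
      show (ζ * ((act ^ n) u).1.1, ((act ^ n) u).1.2) = _
      rw [ih, pow_succ', mul_assoc]
  refine ⟨U σ, inferInstance, inferInstance,
    ⟨{ pr := pr
       pr_surj := fun x => ⟨⟨(Multiplicative.toAdd x, w * (Multiplicative.toAdd x * σ (Multiplicative.toAdd x))),
         hpre _⟩, rfl⟩
       act := act
       act_pow := MulEquiv.ext fun u => Subtype.ext (by
         rw [hact, ← hζ, pow_orderOf_eq_one, one_mul]; rfl)
       pr_act := fun u => rfl
       ker_central := fun z hz => Subgroup.mem_center_iff.mpr fun u => Subtype.ext (by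
         rw [hmul, hmul, (hzero z).mp hz]
         simp [add_comm])
       act_ker := fun z hz => Subtype.ext (Prod.ext (by
         show ζ * z.1.1 = z.1.1
         rw [(hzero z).mp hz, mul_zero]) rfl)
       ker_comm := ?_
       card_eq := ?_ }⟩⟩
  · intro z hz
    have hz0 := (hzero z).mp hz
    have hzK : z.1.2 ∈ K0 := by
      show z.1.2 + σ z.1.2 = 0
      rw [z.2, hz0, zero_mul]
    rw [← hd] at hzK
    obtain ⟨x, hx⟩ := hzK
    let u : U σ := ⟨(1, w * (1 * σ 1)), hpre 1⟩
    let v : U σ := ⟨(x, w * (x * σ x)), hpre x⟩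
    have hzuv : z = ⁅u, v⁆ := Subtype.ext (Prod.ext (by
      rw [commutatorElement_def, hmul, hmul, hmul, hinv, hinv, hz0]
      simp [u, v]) (by
      rw [commutatorElement_def, hmul, hmul, hmul, hinv, hinv]
      simp only [u, v, map_add, map_neg, map_one]
      rw [← hx]
      show x - σ x = _
      ring))
    rw [hzuv]
    exact Subgroup.commutator_mem_commutator (Subgroup.mem_top _) (Subgroup.mem_top _)
  · have e : U σ ≃ F × K0 :=
      { toFun := fun u => (u.1.1, ⟨u.1.2 - w * (u.1.1 * σ u.1.1), by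
          show _ + σ _ = 0
          rw [map_sub]
          linear_combination u.2 - hpre u.1.1⟩)
        invFun := fun v => ⟨(v.1, v.2.1 + w * (v.1 * σ v.1)), by
          rw [map_add]
          have hm0 : v.2.1 + σ v.2.1 = 0 := v.2.2
          linear_combination hm0 + hpre v.1⟩
        left_inv := fun u => Subtype.ext (Prod.ext rfl (sub_add_cancel _ _))
        right_inv := fun v => Prod.ext rfl (Subtype.ext (add_sub_cancel_right _ _)) }
    rw [Nat.card_congr e, Nat.card_prod, hF, hK0, ← pow_add, show extra a = k by unfold extra; split <;> omega]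

variable {r : ℕ}

/-- Everything below a model with a whole image of a generator is everything. -/
theorem proper_abelian_or_small {P : Type*} [Group P] [Finite P] (hζ : orderOf ζ = q) (ha : a = orderOf (p : ZMod q))
    (ha0 : 0 < a) (hF : Nat.card F = p ^ a) (κ : Kernel p q a F ζ P) (hn : κ.act ^ (q ^ r) = 1)
    (K : Subgroup (P ⋊[powHom κ.act hn] Cyc (q ^ r))) (hK : K ≠ ⊤)
    (hgen : ∃ v ∈ K, v.right = Multiplicative.ofAdd 1) : ∀ x ∈ K, ∀ y ∈ K, x * y = y * x := by
  classical
  obtain ⟨v, hv, hvr⟩ := hgen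
  set N : Subgroup P := K.comap SemidirectProduct.inl with hN
  set W : AddSubgroup F :=
    { carrier := {x | ∃ u ∈ N, κ.pr u = Multiplicative.ofAdd x}
      zero_mem' := ⟨1, N.one_mem, map_one _⟩
      add_mem' := fun {x y} ⟨u, hu, hux⟩ ⟨t, ht, hty⟩ => ⟨u * t, N.mul_mem hu ht, by rw [map_mul, hux, hty]; rfl⟩
      neg_mem' := fun {x} ⟨u, hu, hux⟩ => ⟨u⁻¹, N.inv_mem hu, by rw [map_inv, hux]; rfl⟩ } with hW
  have hconj : ∀ u ∈ N, v.left * κ.act u * v.left⁻¹ ∈ N := by
    intro u hu
    have h1 := K.mul_mem (K.mul_mem hv hu) (K.inv_mem hv)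
    show SemidirectProduct.inl _ ∈ K
    have e : v * SemidirectProduct.inl u * v⁻¹ =
        (SemidirectProduct.inl (v.left * κ.act u * v.left⁻¹) : (P ⋊[powHom κ.act hn] Cyc (q ^ r))) := by
      refine mul_inv_eq_of_eq_mul (SemidirectProduct.ext ?_ ?_)
      · simp [hvr, powHom_gen]
      · simp
    exact e ▸ h1
  have hWinv : ∀ x ∈ W, ζ * x ∈ W := by
    rintro x ⟨u, hu, hux⟩
    refine ⟨_, hconj u hu, ?_⟩
    rw [map_mul, map_mul, map_inv, κ.pr_act, hux, mul_comm (κ.pr v.left), mul_inv_cancel_right, toAdd_ofAdd]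
  by_cases hW0 : ∀ x ∈ W, x = 0
  · -- the kernel part is central
    have hNc : ∀ u ∈ N, u ∈ κ.pr.ker := fun u hu => by
      have := hW0 _ ⟨u, hu, (ofAdd_toAdd _).symm⟩
      exact toAdd_eq_zero.mp this
    have hcen : ∀ u ∈ N, ∀ g : (P ⋊[powHom κ.act hn] Cyc (q ^ r)), g * SemidirectProduct.inl u = SemidirectProduct.inl u * g := fun u hu g => by
      have h1 : ∀ n : ℕ, (κ.act ^ n) u = u := by
        intro n
        induction n with
        | zero => rfl
        | succ n ih => rw [pow_succ', MulAut.mul_apply, ih, κ.act_ker u (hNc u hu)]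
      refine SemidirectProduct.ext ?_ ?_
      · simp only [SemidirectProduct.mul_left, SemidirectProduct.left_inl, SemidirectProduct.right_inl, map_one,
          MulAut.one_apply, powHom_apply, h1]
        exact Subgroup.mem_center_iff.mp (κ.ker_central (hNc u hu)) g.left
      · simp
    have hpow : ∀ x ∈ K, ∃ (u : P) (m : ℕ), u ∈ N ∧ x = SemidirectProduct.inl u * v ^ m := by
      intro x hx
      refine ⟨(x * (v ^ (Multiplicative.toAdd x.right).val)⁻¹).left, (Multiplicative.toAdd x.right).val, ?_, ?_⟩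
      all_goals
        have hr : (x * (v ^ (Multiplicative.toAdd x.right).val)⁻¹).right = 1 := by
          rw [SemidirectProduct.mul_right, SemidirectProduct.inv_right,
            ← SemidirectProduct.rightHom_eq_right (φ := powHom κ.act hn), map_pow]
          show x.right * (v.right ^ _)⁻¹ = 1
          rw [hvr, mul_inv_eq_one]
          refine Multiplicative.toAdd.injective ?_
          simp
        have e : (SemidirectProduct.inl (x * (v ^ (Multiplicative.toAdd x.right).val)⁻¹).left : (P ⋊[powHom κ.act hn] Cyc (q ^ r))) =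
            x * (v ^ (Multiplicative.toAdd x.right).val)⁻¹ :=
          SemidirectProduct.ext (by simp) (by simp [hr])
      · show SemidirectProduct.inl _ ∈ K
        rw [e]
        exact K.mul_mem hx (K.inv_mem (K.pow_mem hv _))
      · rw [e, inv_mul_cancel_right]
    intro x hx y hy
    obtain ⟨u, m, hu, rfl⟩ := hpow x hx
    obtain ⟨t, n, ht, rfl⟩ := hpow y hy
    calc SemidirectProduct.inl u * v ^ m * (SemidirectProduct.inl t * v ^ n)
        = SemidirectProduct.inl u * (v ^ m * SemidirectProduct.inl t) * v ^ n := by group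
      _ = SemidirectProduct.inl u * SemidirectProduct.inl t * (v ^ m * v ^ n) := by rw [hcen t ht]; group
      _ = SemidirectProduct.inl t * (SemidirectProduct.inl u * v ^ n) * v ^ m := by
          rw [← hcen u hu (SemidirectProduct.inl t), pow_mul_comm]; group
      _ = _ := by rw [← hcen u hu (v ^ n)]; group
  · exfalso
    push Not at hW0
    obtain ⟨x, hx, hx0⟩ := hW0
    have hall : ∀ y, y ∈ W := fun y => by
      have h1 : ∀ z, z * x ∈ W := fun z => by
        induction z using induction_powers hζ ha ha0 hF with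
        | h0 n =>
          induction n with
          | zero => rwa [pow_zero, one_mul]
          | succ n ih => rw [pow_succ', mul_assoc]; exact hWinv _ ih
        | hz => rw [zero_mul]; exact W.zero_mem
        | hadd u v hu hv => rw [add_mul]; exact W.add_mem hu hv
        | hneg u hu => rw [neg_mul]; exact W.neg_mem hu
      simpa [mul_assoc, inv_mul_cancel₀ hx0] using h1 (y * x⁻¹)
    have hsup : ∀ u : P, ∃ t ∈ N, ∃ z ∈ κ.pr.ker, u = t * z := fun u => by
      obtain ⟨t, ht, htu⟩ := hall (Multiplicative.toAdd (κ.pr u))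
      exact ⟨t, ht, t⁻¹ * u, by rw [MonoidHom.mem_ker, map_mul, map_inv, htu, ofAdd_toAdd, inv_mul_cancel],
        (mul_inv_cancel_left t u).symm⟩
    have hcommN : commutator P ≤ N := by
      rw [commutator_def, Subgroup.commutator_le]
      intro u _ s _
      obtain ⟨t, ht, z, hz, rfl⟩ := hsup u
      obtain ⟨t', ht', z', hz', rfl⟩ := hsup s
      have hz1 := Subgroup.mem_center_iff.mp (κ.ker_central hz)
      have hz2 := Subgroup.mem_center_iff.mp (κ.ker_central hz')
      have e : ⁅t * z, t' * z'⁆ = ⁅t, t'⁆ := by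
        simp only [commutatorElement_def, mul_inv_rev]
        calc t * z * (t' * z') * (z⁻¹ * t⁻¹) * (z'⁻¹ * t'⁻¹) = t * (z * t') * z' * z⁻¹ * t⁻¹ * z'⁻¹ * t'⁻¹ := by group
          _ = t * t' * (z * z') * z⁻¹ * t⁻¹ * z'⁻¹ * t'⁻¹ := by rw [← hz1 t']; group
          _ = t * t' * (z' * t⁻¹) * z'⁻¹ * t'⁻¹ := by rw [← hz1 z']; group
          _ = t * t' * t⁻¹ * t'⁻¹ := by rw [← hz2 t⁻¹]; group
      rw [e]
      exact N.mul_mem (N.mul_mem (N.mul_mem ht ht') (N.inv_mem ht)) (N.inv_mem ht')
    have hNtop : ∀ u : P, u ∈ N := fun u => by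
      obtain ⟨t, ht, z, hz, rfl⟩ := hsup u
      exact N.mul_mem ht (hcommN (κ.ker_comm hz))
    refine hK (eq_top_iff.mpr fun g _ => ?_)
    have h2 : (SemidirectProduct.inr (Multiplicative.ofAdd 1) : (P ⋊[powHom κ.act hn] Cyc (q ^ r))) ∈ K := by
      have h1 := K.mul_mem (hNtop v.left⁻¹ : SemidirectProduct.inl v.left⁻¹ ∈ K) hv
      convert h1 using 1
      exact SemidirectProduct.ext (by simp) (by simp [hvr])
    rw [← SemidirectProduct.inl_left_mul_inr_right g]
    refine K.mul_mem (hNtop _) ?_
    have h3 := K.pow_mem h2 (Multiplicative.toAdd g.right).val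
    rw [← map_pow] at h3
    convert h3 using 2
    exact Multiplicative.toAdd.injective (by simp)

end CfsgLib.MaxSchmidt
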