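import Mathlib
import Cfsg.Agent.Lib.MaxSchmidt.Field
import Cfsg.Agent.Lib.MaxSchmidt.Endo

/-!
A p-group with an automorphism of prime order fixing every invariant proper subgroup.
-/

set_option autoImplicit false
set_option linter.unusedSectionVars false

namespace CfsgLib.MaxSchmidt

open scoped commutatorElement

variable {p q a : ℕ} [Fact p.Prime] [Fact q.Prime]
variable {F : Type*} [Field F] [Finite F] [CharP F p] {ζ : F}
variable {P : Type*} [Group P] [Finite P]

theorem eq_one_of_orders (hpq : p ≠ q) (hP : IsPGroup p P) {z : P} (hz : z ^ q = 1) : z = 1 := by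
  obtain ⟨k, hk⟩ := IsPGroup.iff_orderOf.mp hP z
  refine orderOf_eq_one_iff.mp (Nat.eq_one_of_dvd_coprimes
    (((Nat.coprime_primes (Fact.out : p.Prime) (Fact.out : q.Prime)).mpr hpq).pow_left k) (hk ▸ dvd_rfl)
    (orderOf_dvd_of_pow_eq_one hz))

theorem displacements_top (hpq : p ≠ q) (hP : IsPGroup p P) (θ : MulAut P) (hθq : θ ^ q = 1) (hθ : θ ≠ 1)
    (hinv : ∀ R : Subgroup P, R ≠ ⊤ → (∀ u ∈ R, θ u ∈ R) → ∀ u ∈ R, θ u = u) :
    Subgroup.closure (Set.range fun u => θ u * u⁻¹) = ⊤ := by
  by_contra h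
  refine hθ (MulEquiv.ext fun u => ?_)
  have hmem : ∀ x, θ x * x⁻¹ ∈ Subgroup.closure (Set.range fun u => θ u * u⁻¹) :=
    fun x => Subgroup.subset_closure ⟨x, rfl⟩
  have hfix := hinv _ h (fun x hx => by
    induction hx using Subgroup.closure_induction with
    | mem v hv =>
      obtain ⟨w, rfl⟩ := hv
      show θ (θ w * w⁻¹) ∈ _
      rw [map_mul, map_inv]
      exact hmem (θ w)
    | one => rw [map_one]; exact one_mem _
    | mul v w _ _ hv hw => rw [map_mul]; exact mul_mem hv hw
    | inv v _ hv => rw [map_inv]; exact inv_mem hv)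
  set z := θ u * u⁻¹ with hz
  have hθz : θ z = z := hfix z (hmem u)
  have hn : ∀ n : ℕ, (θ ^ n) u = z ^ n * u := by
    intro n
    induction n with
    | zero => simp
    | succ n ih =>
      rw [pow_succ', MulAut.mul_apply, ih, map_mul, map_pow, hθz, pow_succ, mul_assoc, hz, inv_mul_cancel_right]
  have hq := hn q
  rw [hθq, MulAut.one_apply, right_eq_mul] at hq
  rw [MulAut.one_apply]
  exact mul_inv_eq_one.mp (eq_one_of_orders hpq hP hq)

theorem commutator_central (θ : MulAut P)
    (hD : Subgroup.closure (Set.range fun u => θ u * u⁻¹) = ⊤) (hfix : ∀ z ∈ commutator P, θ z = z) :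
    commutator P ≤ Subgroup.center P := by
  intro z hz
  rw [Subgroup.mem_center_iff]
  intro g
  have hg : g ∈ Subgroup.closure (Set.range fun u => θ u * u⁻¹) := hD ▸ Subgroup.mem_top g
  have hC : g ∈ Subgroup.centralizer {z} := by
    refine (Subgroup.closure_le _).mpr ?_ hg
    rintro _ ⟨u, rfl⟩
    rw [SetLike.mem_coe, Subgroup.mem_centralizer_singleton_iff]
    have h1 : u⁻¹ * z * u ∈ commutator P := by
      have := Subgroup.Normal.conj_mem inferInstance z hz u⁻¹
      rwa [inv_inv] at this
    have h2 := hfix _ h1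
    rw [map_mul, map_mul, map_inv, hfix z hz] at h2
    calc θ u * u⁻¹ * z = θ u * (u⁻¹ * z * u) * u⁻¹ := by group
      _ = θ u * ((θ u)⁻¹ * z * θ u) * u⁻¹ := by rw [h2]
      _ = z * (θ u * u⁻¹) := by group
  exact Subgroup.mem_centralizer_singleton_iff.mp hC

/-- The structure of the kernel. -/
theorem kernel_analysis (hζ : orderOf ζ = q) (hpq : p ≠ q) (ha : a = orderOf (p : ZMod q))
    (hF : Nat.card F = p ^ a) (hP : IsPGroup p P) (θ : MulAut P) (hθq : θ ^ q = 1) (hθ : θ ≠ 1)
    (hinv : ∀ R : Subgroup P, R ≠ ⊤ → (∀ u ∈ R, θ u ∈ R) → ∀ u ∈ R, θ u = u) :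
    ∃ (j : ℕ) (f : P →* Multiplicative F), ¬ q ∣ j ∧ Function.Surjective f ∧
      (∀ u, f ((θ ^ j) u) = Multiplicative.ofAdd (ζ * Multiplicative.toAdd (f u))) ∧
      f.ker ≤ Subgroup.center P ∧ (∀ z ∈ f.ker, θ z = z) ∧ Nat.card P ≤ p ^ (a + extra a) := by
  classical
  have ha0 := order_pos hpq ha
  have hD := displacements_top hpq hP θ hθq hθ hinv
  haveI : Nontrivial P := by
    by_contra h
    rw [not_nontrivial_iff_subsingleton] at h
    exact hθ (MulEquiv.ext fun u => Subsingleton.elim _ _)
  haveI : Group.IsNilpotent P := hP.isNilpotent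
  have hlt : commutator P ≠ ⊤ := (IsSolvable.commutator_lt_top_of_nontrivial P).ne
  have hfix : ∀ z ∈ commutator P, θ z = z := hinv _ hlt (fun u hu => by
    have hchar : Subgroup.map θ.toMonoidHom (commutator P) ≤ commutator P := by
      rw [commutator_def, Subgroup.map_commutator]
      exact Subgroup.commutator_mono le_top le_top
    exact hchar ⟨u, hu, rfl⟩)
  have hcen := commutator_central θ hD hfix
  haveI : Nontrivial (Additive (Abelianization P)) := by
    by_contra h
    rw [not_nontrivial_iff_subsingleton] at h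
    refine hlt (eq_top_iff.mpr fun u _ => ?_)
    rw [← Abelianization.ker_of, MonoidHom.mem_ker]
    exact Additive.ofMul.injective (Subsingleton.elim _ _)
  let γ : AddMonoid.End (Additive (Abelianization P)) := MonoidHom.toAdditive (Abelianization.map θ.toMonoidHom)
  let o : P → Additive (Abelianization P) := fun u => Additive.ofMul (Abelianization.of u)
  have ho : Function.Surjective o := fun w => by
    obtain ⟨u, hu⟩ := QuotientGroup.mk'_surjective (commutator P) (Additive.toMul w)
    exact ⟨u, congrArg Additive.ofMul hu⟩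
  have homul : ∀ u v, o (u * v) = o u + o v := fun u v => congrArg Additive.ofMul (map_mul Abelianization.of u v)
  have hγo : ∀ u, γ (o u) = o (θ u) := fun u => congrArg Additive.ofMul (Abelianization.map_of θ.toMonoidHom u)
  have hγn : ∀ (n : ℕ) u, (γ ^ n) (o u) = o ((θ ^ n) u) := by
    intro n
    induction n with
    | zero => intro u; rfl
    | succ n ih => intro u; rw [pow_succ', pow_succ', MulAut.mul_apply, ← hγo, ← ih]; rfl
  let δ : Additive (Abelianization P) →+ Additive (Abelianization P) :=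
    AddMonoidHom.mk' (fun w => γ w - w) (fun v w => by rw [map_add]; abel)
  have hδ : Function.Surjective δ := by
    intro w
    obtain ⟨u, rfl⟩ := ho w
    have hu : u ∈ Subgroup.closure (Set.range fun u => θ u * u⁻¹) := hD ▸ Subgroup.mem_top u
    induction hu using Subgroup.closure_induction with
    | mem v hv =>
      obtain ⟨x, rfl⟩ := hv
      refine ⟨o x, ?_⟩
      show γ (o x) - o x = o (θ x * x⁻¹)
      rw [hγo, homul, sub_eq_add_neg]
      exact congrArg (o (θ x) + ·) (congrArg Additive.ofMul (map_inv Abelianization.of x)).symm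
    | one => exact ⟨0, by rw [map_zero]; rfl⟩
    | mul x y _ _ hx hy =>
      obtain ⟨v, hv⟩ := hx
      obtain ⟨w, hw⟩ := hy
      exact ⟨v + w, by rw [map_add, hv, hw, homul]⟩
    | inv x _ hx =>
      obtain ⟨v, hv⟩ := hx
      exact ⟨-v, by rw [map_neg, hv]; exact (congrArg Additive.ofMul (map_inv Abelianization.of x)).symm⟩
  have hδi : Function.Injective δ := Finite.injective_iff_surjective.mpr hδ
  have hirr : ∀ S : AddSubgroup (Additive (Abelianization P)), (∀ x ∈ S, γ x ∈ S) → S = ⊥ ∨ S = ⊤ := by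
    intro S hS
    refine or_iff_not_imp_right.mpr fun hne => (AddSubgroup.eq_bot_iff_forall _).mpr fun w hw => ?_
    let R : Subgroup P :=
      { carrier := {u | o u ∈ S}
        one_mem' := S.zero_mem
        mul_mem' := fun {u v} hu hv => by show o (u * v) ∈ S; rw [homul]; exact S.add_mem hu hv
        inv_mem' := fun {u} hu => by
          show o u⁻¹ ∈ S
          rw [show o u⁻¹ = -o u from congrArg Additive.ofMul (map_inv Abelianization.of u)]
          exact S.neg_mem hu }
    have hR : R ≠ ⊤ := fun h => hne (eq_top_iff.mpr fun v _ => by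
      obtain ⟨u, rfl⟩ := ho v
      have : u ∈ R := h ▸ Subgroup.mem_top u
      exact this)
    obtain ⟨u, rfl⟩ := ho w
    refine hδi ?_
    rw [map_zero]
    show γ (o u) - o u = 0
    rw [hγo, hinv R hR (fun v hv => by show o (θ v) ∈ S; rw [← hγo]; exact hS _ hv) u hw, sub_self]
  have hpow : ∀ w : Additive (Abelianization P), p • w = 0 := by
    let μ : Additive (Abelianization P) →+ Additive (Abelianization P) :=
      AddMonoidHom.mk' (fun w => p • w) (fun v w => nsmul_add v w p)
    intro w
    rcases hirr μ.range (fun x ⟨v, hv⟩ => ⟨γ v, by rw [← hv]; exact (map_nsmul γ p v).symm⟩) with h | h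
    · have : μ w ∈ μ.range := ⟨w, rfl⟩
      rw [h] at this
      exact AddSubgroup.mem_bot.mp this
    · exfalso
      have hinjμ : Function.Injective μ :=
        Finite.injective_iff_surjective.mpr (AddMonoidHom.range_eq_top.mp h)
      have hdvd : p ∣ Nat.card (Abelianization P) := by
        obtain ⟨k, hk⟩ := IsPGroup.iff_card.mp (hP.of_surjective (Abelianization.of : P →* Abelianization P)
          (QuotientGroup.mk'_surjective _))
        rcases k with _ | k
        · exfalso
          rw [pow_zero] at hk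
          have h1 : Nat.card (Additive (Abelianization P)) = 1 := hk
          exact not_subsingleton (Additive (Abelianization P)) (Nat.card_eq_one_iff_unique.mp h1).1
        · exact hk ▸ dvd_pow_self p k.succ_ne_zero
      obtain ⟨x, hx⟩ := exists_prime_addOrderOf_dvd_card' (G := Additive (Abelianization P)) p hdvd
      have h1 : x = 0 := hinjμ (by rw [map_zero]; show p • x = 0; rw [← hx, addOrderOf_nsmul_eq_zero])
      rw [h1, addOrderOf_zero] at hx
      exact (Fact.out : p.Prime).ne_one hx.symm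
  have hγq : γ ^ q = 1 := AddMonoidHom.ext fun w => by
    obtain ⟨u, rfl⟩ := ho w
    show (γ ^ q) (o u) = o u
    rw [hγn, hθq, MulAut.one_apply]
  have hγ1 : γ ≠ 1 := fun h => by
    obtain ⟨w, hw⟩ := exists_ne (0 : Additive (Abelianization P))
    refine hw (hδi ?_)
    rw [map_zero]
    show γ w - w = 0
    rw [h]
    exact sub_self w
  obtain ⟨j, e, hj, he⟩ := exists_field_equiv (W := Additive (Abelianization P)) hζ ha ha0 hF γ hγq hγ1 hpow hirr
  let f : P →* Multiplicative F := MonoidHom.mk' (fun u => Multiplicative.ofAdd (e.symm (o u))) fun u v => by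
    rw [homul, map_add]; rfl
  have hker : ∀ z, z ∈ f.ker ↔ z ∈ commutator P := fun z => by
    rw [← Abelianization.ker_of, MonoidHom.mem_ker, MonoidHom.mem_ker]
    refine ⟨fun h => ?_, fun h => ?_⟩
    · have h1 : e.symm (o z) = 0 := h
      rw [map_eq_zero_iff _ e.symm.injective] at h1
      exact h1
    · show Multiplicative.ofAdd (e.symm (o z)) = 1
      rw [show o z = 0 from congrArg Additive.ofMul h, map_zero]
      rfl
  have hfsurj : Function.Surjective f := fun x => by
    obtain ⟨u, hu⟩ := ho (e (Multiplicative.toAdd x))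
    refine ⟨u, ?_⟩
    show Multiplicative.ofAdd (e.symm (o u)) = x
    rw [hu, e.symm_apply_apply, ofAdd_toAdd]
  have hfθ : ∀ u, f ((θ ^ j) u) = Multiplicative.ofAdd (ζ * Multiplicative.toAdd (f u)) := fun u => by
    show Multiplicative.ofAdd (e.symm (o ((θ ^ j) u))) = Multiplicative.ofAdd (ζ * e.symm (o u))
    congr 1
    rw [AddEquiv.symm_apply_eq, he, e.apply_symm_apply, hγn]
  refine ⟨j, f, hj, hfsurj, hfθ, fun z hz => hcen ((hker z).mp hz), fun z hz => hfix z ((hker z).mp hz), ?_⟩
  -- the pairing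
  letI : CommGroup ↥(commutator P) :=
    { (inferInstance : Group ↥(commutator P)) with
      mul_comm := fun x y => Subtype.ext (Subgroup.mem_center_iff.mp (hcen y.2) (x : P)) }
  choose s hs using fun x => hfsurj (Multiplicative.ofAdd x)
  have hkey : ∀ {u v : P} {x y : F}, f u = Multiplicative.ofAdd x → f v = Multiplicative.ofAdd y →
      ⁅u, v⁆ = ⁅s x, s y⁆ := by
    intro u v x y hu hv
    have hz1 : (s x)⁻¹ * u ∈ f.ker := by rw [MonoidHom.mem_ker, map_mul, map_inv, hs, hu, inv_mul_cancel]
    have hz2 : (s y)⁻¹ * v ∈ f.ker := by rw [MonoidHom.mem_ker, map_mul, map_inv, hs, hv, inv_mul_cancel]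
    obtain ⟨z, hz, rfl⟩ : ∃ z ∈ Subgroup.center P, u = s x * z :=
      ⟨_, hcen ((hker _).mp hz1), (mul_inv_cancel_left _ _).symm⟩
    obtain ⟨z', hz', rfl⟩ : ∃ z' ∈ Subgroup.center P, v = s y * z' :=
      ⟨_, hcen ((hker _).mp hz2), (mul_inv_cancel_left _ _).symm⟩
    have h1 := Subgroup.mem_center_iff.mp hz
    have h2 := Subgroup.mem_center_iff.mp hz'
    simp only [commutatorElement_def, mul_inv_rev]
    calc s x * z * (s y * z') * (z⁻¹ * (s x)⁻¹) * (z'⁻¹ * (s y)⁻¹)
        = s x * (z * s y) * z' * z⁻¹ * (s x)⁻¹ * z'⁻¹ * (s y)⁻¹ := by group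
      _ = s x * s y * (z * z') * z⁻¹ * (s x)⁻¹ * z'⁻¹ * (s y)⁻¹ := by rw [← h1 (s y)]; group
      _ = s x * s y * (z' * (s x)⁻¹) * z'⁻¹ * (s y)⁻¹ := by rw [← h1 z']; group
      _ = s x * s y * (s x)⁻¹ * (s y)⁻¹ := by rw [← h2 (s x)⁻¹]; group
  let c : F → F → Additive ↥(commutator P) := fun x y => Additive.ofMul
    ⟨⁅s x, s y⁆, Subgroup.commutator_mem_commutator (Subgroup.mem_top _) (Subgroup.mem_top _)⟩
  have hc : ∀ x y, ((Additive.toMul (c x y) : ↥(commutator P)) : P) = ⁅s x, s y⁆ := fun x y => rfl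
  have hconj : ∀ (u : P) {z : P}, z ∈ commutator P → u * z * u⁻¹ = z := fun u z hz => by
    rw [Subgroup.mem_center_iff.mp (hcen hz) u, mul_inv_cancel_right]
  have hadd1 : ∀ x x' y, c (x + x') y = c x y + c x' y := fun x x' y => by
    refine Additive.toMul.injective (Subtype.ext ?_)
    rw [toMul_add, Subgroup.coe_mul, hc, hc, hc, ← hkey (u := s x * s x') (v := s y) (by rw [map_mul, hs, hs]; rfl)
      (hs y)]
    have h1 := hconj (s x) (Subgroup.commutator_mem_commutator (Subgroup.mem_top (s x')) (Subgroup.mem_top (s y)))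
    have h2 := Subgroup.mem_center_iff.mp (hcen (Subgroup.commutator_mem_commutator (Subgroup.mem_top (s x))
      (Subgroup.mem_top (s y)))) ⁅s x', s y⁆
    calc ⁅s x * s x', s y⁆ = (s x * ⁅s x', s y⁆ * (s x)⁻¹) * ⁅s x, s y⁆ := by simp only [commutatorElement_def]; group
      _ = ⁅s x, s y⁆ * ⁅s x', s y⁆ := by rw [h1, h2]
  have hadd2 : ∀ x y y', c x (y + y') = c x y + c x y' := fun x y y' => by
    refine Additive.toMul.injective (Subtype.ext ?_)
    rw [toMul_add, Subgroup.coe_mul, hc, hc, hc, ← hkey (u := s x) (v := s y * s y') (hs x)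
      (by rw [map_mul, hs, hs]; rfl)]
    have h1 := hconj (s y) (Subgroup.commutator_mem_commutator (Subgroup.mem_top (s x)) (Subgroup.mem_top (s y')))
    calc ⁅s x, s y * s y'⁆ = ⁅s x, s y⁆ * (s y * ⁅s x, s y'⁆ * (s y)⁻¹) := by simp only [commutatorElement_def]; group
      _ = ⁅s x, s y⁆ * ⁅s x, s y'⁆ := by rw [h1]
  let β : F →+ F →+ Additive ↥(commutator P) :=
    AddMonoidHom.mk' (fun x => AddMonoidHom.mk' (c x) (hadd2 x)) fun x x' => AddMonoidHom.ext (hadd1 x x')
  have halt : ∀ x, β x x = 0 := fun x => Additive.toMul.injective (Subtype.ext (by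
    show ⁅s x, s x⁆ = 1
    exact commutatorElement_self _))
  have hfixk : ∀ (n : ℕ), ∀ z ∈ commutator P, (θ ^ n) z = z := by
    intro n
    induction n with
    | zero => intro z _; rfl
    | succ n ih => intro z hz; rw [pow_succ, MulAut.mul_apply, hfix z hz, ih z hz]
  have hfixn := hfixk j
  have hinvβ : ∀ x y, β (ζ * x) (ζ * y) = β x y := fun x y => Additive.toMul.injective (Subtype.ext (by
    show ⁅s (ζ * x), s (ζ * y)⁆ = ⁅s x, s y⁆
    rw [← hkey (u := (θ ^ j) (s x)) (v := (θ ^ j) (s y)) (by rw [hfθ, hs]; rfl) (by rw [hfθ, hs]; rfl),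
      ← map_commutatorElement, hfixn _ (Subgroup.commutator_mem_commutator (Subgroup.mem_top _) (Subgroup.mem_top _))]))
  have hgen : AddSubgroup.closure (Set.range fun z : F × F => β z.1 z.2) = ⊤ := by
    refine eq_top_iff.mpr fun w _ => ?_
    obtain ⟨⟨z, hz⟩, rfl⟩ := Additive.ofMul.surjective w
    have hz' : z ∈ Subgroup.closure (commutatorSet P) := commutator_eq_closure P ▸ hz
    suffices ∀ z' (_ : z' ∈ Subgroup.closure (commutatorSet P)), ∀ h : z' ∈ commutator P,
        Additive.ofMul (⟨z', h⟩ : ↥(commutator P)) ∈ AddSubgroup.closure (Set.range fun t : F × F => β t.1 t.2) from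
      this z hz' hz
    intro z' hz''
    induction hz'' using Subgroup.closure_induction with
    | mem v hv =>
      intro h
      obtain ⟨g₁, g₂, rfl⟩ := hv
      refine AddSubgroup.subset_closure ⟨(Multiplicative.toAdd (f g₁), Multiplicative.toAdd (f g₂)), ?_⟩
      refine Additive.toMul.injective (Subtype.ext ?_)
      exact (hkey (ofAdd_toAdd (f g₁)).symm (ofAdd_toAdd (f g₂)).symm).symm
    | one => intro h; exact zero_mem _
    | mul v w hv hw ihv ihw =>
      intro h
      exact add_mem (ihv (commutator_eq_closure P ▸ hv)) (ihw (commutator_eq_closure P ▸ hw))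
    | inv v hv ihv =>
      intro h
      exact neg_mem (ihv (commutator_eq_closure P ▸ hv))
  have hbound := pairing_bound hζ ha ha0 hF β halt hinvβ hgen
  have hW : Nat.card (Abelianization P) = p ^ a := by
    rw [show Nat.card (Abelianization P) = Nat.card (Additive (Abelianization P)) from rfl,
      ← Nat.card_congr e.toEquiv, hF]
  rw [(commutator P).card_eq_card_quotient_mul_card_subgroup, pow_add,
    show Nat.card (P ⧸ commutator P) = p ^ a from hW]
  exact Nat.mul_le_mul_left _ hbound

end CfsgLib.MaxSchmidt
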