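import Mathlib
import Cfsg.Agent.Lib.NilpotentCommute
import Cfsg.Agent.Lib.MaxSchmidt.Model
import Cfsg.Agent.Lib.MaxSchmidt.Sylow

/-!
Minimal non-nilpotent groups of order `p ^ t * q ^ r`.
-/

set_option autoImplicit false
set_option linter.unusedSectionVars false

namespace CfsgLib.MaxSchmidt

variable {p q a r : ℕ} [Fact p.Prime] [Fact q.Prime]
variable {F : Type*} [Field F] [Finite F] [CharP F p] {ζ : F}

theorem coprime_orders (hpq : p ≠ q) {X : Type*} [Group X] {x y : X} {i k : ℕ} (hx : x ^ p ^ i = 1)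
    (hy : y ^ q ^ k = 1) : (orderOf x).Coprime (orderOf y) :=
  (((Nat.coprime_primes (Fact.out : p.Prime) (Fact.out : q.Prime)).mpr hpq).pow i k
    |>.coprime_dvd_left (orderOf_dvd_of_pow_eq_one hx)).coprime_dvd_right (orderOf_dvd_of_pow_eq_one hy)

theorem index_dvd_of_sup {X : Type*} [Group X] (P : Subgroup X) [P.Normal] (d : X)
    (h : P ⊔ Subgroup.zpowers d = ⊤) : P.index ∣ orderOf d := by
  have h1 : P.relIndex (Subgroup.zpowers d ⊔ P) = P.relIndex (Subgroup.zpowers d) := Subgroup.relIndex_sup_right _ _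
  rw [sup_comm, h, Subgroup.relIndex_top_right] at h1
  rw [h1, ← Nat.card_zpowers d]
  exact Subgroup.index_dvd_card _

theorem mulAut_pow_r (hζ : orderOf ζ = q) (hr : 1 ≤ r) : mulAut ζ (ne_zero_of_order hζ) ^ (q ^ r) = 1 :=
  orderOf_dvd_iff_pow_eq_one.mp
    ((orderOf_dvd_of_pow_eq_one (mulAut_pow_q hζ)).trans (dvd_pow_self q (by omega)))

/-- The smallest quotient. -/
abbrev Base (hζ : orderOf ζ = q) (hr : 1 ≤ r) : Type _ :=
  Multiplicative F ⋊[powHom (mulAut ζ (ne_zero_of_order hζ)) (mulAut_pow_r hζ hr)] Cyc (q ^ r)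

theorem pow_left {P : Type*} [Group P] (θ : MulAut P) {n : ℕ} [NeZero n] (hθ : θ ^ n = 1)
    (f : P →* Multiplicative F) (hζ0 : ζ ≠ 0) (hn : mulAut ζ hζ0 ^ n = 1)
    (h : ∀ u, f (θ u) = Multiplicative.ofAdd (ζ * Multiplicative.toAdd (f u))) (g : Cyc n) :
    f.comp (powHom θ hθ g).toMonoidHom = ((powHom (mulAut ζ hζ0) hn) g).toMonoidHom.comp f := by
  refine MonoidHom.ext fun u => ?_
  show f ((θ ^ (Multiplicative.toAdd g).val) u) = (mulAut ζ hζ0 ^ (Multiplicative.toAdd g).val) (f u)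
  induction (Multiplicative.toAdd g).val generalizing u with
  | zero => simp
  | succ k ih => rw [pow_succ, pow_succ, MulAut.mul_apply, MulAut.mul_apply, ih, h]; rfl

/-- Every such group maps onto the smallest quotient with small central kernel. -/
theorem structure_hom (hζ : orderOf ζ = q) (hpq : p ≠ q) (ha : a = orderOf (p : ZMod q))
    (hF : Nat.card F = p ^ a) (hr : 1 ≤ r) {X : Type*} [Group X] [Finite X]
    (hmin : ∀ H : Subgroup X, H ≠ ⊤ → Group.IsNilpotent H) (hnn : ¬ Group.IsNilpotent X)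
    (P : Subgroup X) [P.Normal] {t : ℕ} (hP : Nat.card P = p ^ t) (hX : Nat.card X = p ^ t * q ^ r) :
    t ≤ a + extra a ∧ ∃ χ : X →* Base hζ hr,
      Function.Surjective χ ∧ χ.ker ≤ Subgroup.center X ∧ IsPGroup p χ.ker := by
  classical
  have hPp : IsPGroup p P := IsPGroup.of_card hP
  have hidx : P.index = q ^ r := by
    have h := P.index_mul_card
    rw [hX, hP, mul_comm (p ^ t)] at h
    exact Nat.eq_of_mul_eq_mul_right (pow_pos (Fact.out : p.Prime).pos t) h
  obtain ⟨Q, hQ⟩ := Sylow.exists_subgroup_card_pow_prime (G := X) q (n := r) (hX ▸ dvd_mul_left _ _)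
  have hQord : ∀ y ∈ Q, y ^ q ^ r = 1 := fun y hy => by
    have h := pow_card_eq_one' (G := Q) (x := ⟨y, hy⟩)
    rw [hQ] at h
    exact congrArg Subtype.val h
  obtain ⟨c, hcQ, hcP⟩ : ∃ c ∈ Q, ∃ u ∈ P, c * u ≠ u * c := by
    by_contra hcon
    push Not at hcon
    refine hnn ?_
    haveI : Group.IsNilpotent P := hPp.isNilpotent
    haveI : Group.IsNilpotent Q := (IsPGroup.of_card hQ).isNilpotent
    let μ : ↥P × ↥Q →* X := MonoidHom.noncommCoprod P.subtype Q.subtype fun u y => (hcon y y.2 u u.2).symm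
    refine Group.nilpotent_of_surjective μ ((Nat.bijective_iff_injective_and_card μ).mpr ⟨?_, ?_⟩).2
    · refine (injective_iff_map_eq_one μ).mpr fun z hz => ?_
      have h1 : (z.1 : X) * z.2 = 1 := hz
      have h2 : (z.1 : X) = (z.2 : X)⁻¹ := eq_inv_of_mul_eq_one_left h1
      obtain ⟨i, hi⟩ := IsPGroup.iff_orderOf.mp hPp z.1
      have h3 : (orderOf (z.1 : X)).Coprime (orderOf ((z.2 : X)⁻¹)) :=
        coprime_orders hpq (i := i) (k := r) (by rw [← hi, ← Subgroup.orderOf_coe]; exact pow_orderOf_eq_one _)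
          (hQord _ (Q.inv_mem z.2.2))
      rw [← h2, Nat.coprime_self, orderOf_eq_one_iff] at h3
      have h4 : (z.2 : X) = 1 := by rw [h3, one_mul] at h1; exact h1
      exact Prod.ext (Subtype.ext h3) (Subtype.ext h4)
    · rw [Nat.card_prod, hP, hQ, hX]
  have hnotnil : ∀ d : X, (∀ u ∈ P, d * u = u * d) ∨ P ⊔ Subgroup.zpowers d = ⊤ ∨ ¬ d ^ q ^ r = 1 := by
    intro d
    refine or_iff_not_imp_left.mpr fun h => or_iff_not_imp_right.mpr fun hd => ?_
    rw [not_not] at hd
    by_contra hne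
    refine h fun u hu => ?_
    haveI := hmin _ hne
    obtain ⟨i, hi⟩ := IsPGroup.iff_orderOf.mp hPp ⟨u, hu⟩
    rw [Subgroup.orderOf_mk] at hi
    have h1 := CfsgLib.commute_of_nilpotent
      (⟨d, Subgroup.mem_sup_right (Subgroup.mem_zpowers d)⟩ : ↥(P ⊔ Subgroup.zpowers d))
      ⟨u, Subgroup.mem_sup_left hu⟩
      (by
        rw [Subgroup.orderOf_mk, Subgroup.orderOf_mk]
        exact (coprime_orders hpq (i := i) (hi ▸ pow_orderOf_eq_one u) hd).symm)
    exact congrArg Subtype.val h1.eq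
  have hc1 := hQord c hcQ
  have htop : P ⊔ Subgroup.zpowers c = ⊤ := by
    rcases hnotnil c with h | h | h
    · obtain ⟨u, hu, hne⟩ := hcP
      exact absurd (h u hu) hne
    · exact h
    · exact absurd hc1 h
  have hord : orderOf c = q ^ r :=
    Nat.dvd_antisymm (orderOf_dvd_of_pow_eq_one hc1) (hidx ▸ index_dvd_of_sup P c htop)
  have hcq : ∀ u ∈ P, c ^ q * u = u * c ^ q := by
    rcases hnotnil (c ^ q) with h | h | h
    · exact h
    · exfalso
      have h1 := index_dvd_of_sup P _ h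
      rw [hidx, orderOf_pow_of_dvd (Fact.out : q.Prime).ne_zero (hord ▸ dvd_pow_self q (by omega)), hord] at h1
      have h2 := Nat.le_of_dvd (Nat.div_pos (Nat.le_self_pow (by omega) q) (Fact.out : q.Prime).pos) h1
      exact absurd h2 (not_le.mpr (Nat.div_lt_self (pow_pos (Fact.out : q.Prime).pos r) (Fact.out : q.Prime).one_lt))
    · exact absurd (by rw [← pow_mul, mul_comm, pow_mul, hc1, one_pow]) h
  let θ : MulAut P := MulAut.conjNormal c
  have hθn : ∀ (n : ℕ) (u : P), ((((θ ^ n) : MulAut P) u : P) : X) = c ^ n * (u : X) * (c ^ n)⁻¹ := by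
    intro n u
    rw [← map_pow]
    exact MulAut.conjNormal_apply _ _
  have hθq : θ ^ q = 1 := MulEquiv.ext fun u => Subtype.ext (by
    rw [hθn, hcq u u.2, mul_inv_cancel_right]; rfl)
  have hθ : θ ≠ 1 := fun h => by
    obtain ⟨u, hu, hne⟩ := hcP
    refine hne ?_
    have h1 := hθn 1 ⟨u, hu⟩
    rw [pow_one, pow_one, h] at h1
    exact (eq_mul_inv_iff_mul_eq.mp h1).symm
  have hinv : ∀ R : Subgroup P, R ≠ ⊤ → (∀ u ∈ R, θ u ∈ R) → ∀ u ∈ R, θ u = u := by
    intro R hR hRinv u hu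
    set R' : Subgroup X := R.map P.subtype with hR'
    have hnorm : c ∈ Subgroup.normalizer (R' : Set X) := by
      refine Subgroup.mem_normalizer_fintype ?_
      rintro _ ⟨v, hv, rfl⟩
      refine ⟨θ v, hRinv v hv, ?_⟩
      have h1 := hθn 1 v
      rw [pow_one, pow_one] at h1
      exact h1
    have hne : R' ⊔ Subgroup.zpowers c ≠ ⊤ := fun h => hR (eq_top_iff.mpr fun v _ => by
      have h1 : (v : X) ∈ ((R' ⊔ Subgroup.zpowers c : Subgroup X) : Set X) := by
        rw [h]; exact Subgroup.mem_top _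
      rw [Subgroup.coe_mul_of_right_le_normalizer_left R' (Subgroup.zpowers c) (Subgroup.zpowers_le.mpr hnorm)] at h1
      obtain ⟨w, hw, y, hy, hwy⟩ := h1
      obtain ⟨w', hw', rfl⟩ := hw
      have hyP : y ∈ P := by
        have : y = (w' : X)⁻¹ * v := by rw [← hwy]; exact (inv_mul_cancel_left _ _).symm
        rw [this]
        exact P.mul_mem (P.inv_mem w'.2) v.2
      obtain ⟨i, hi⟩ := IsPGroup.iff_orderOf.mp hPp ⟨y, hyP⟩
      rw [Subgroup.orderOf_mk] at hi
      obtain ⟨k, rfl⟩ := Subgroup.mem_zpowers_iff.mp hy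
      have hy1 : (c ^ k) ^ q ^ r = 1 := by rw [← zpow_natCast, ← zpow_mul, mul_comm, zpow_mul, zpow_natCast, hc1, one_zpow]
      have h3 := coprime_orders hpq (i := i) (hi ▸ pow_orderOf_eq_one _) hy1
      rw [Nat.coprime_self, orderOf_eq_one_iff] at h3
      have hvw : v = w' := Subtype.ext (by
        show (v : X) = (w' : X)
        rw [← hwy, h3]
        exact mul_one _)
      exact hvw ▸ hw')
    haveI := hmin _ hne
    obtain ⟨i, hi⟩ := IsPGroup.iff_orderOf.mp hPp u
    have h1 := CfsgLib.commute_of_nilpotent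
      (⟨c, Subgroup.mem_sup_right (Subgroup.mem_zpowers c)⟩ : ↥(R' ⊔ Subgroup.zpowers c))
      ⟨u, Subgroup.mem_sup_left ⟨u, hu, rfl⟩⟩
      (by
        rw [Subgroup.orderOf_mk, Subgroup.orderOf_mk]
        refine (coprime_orders hpq (i := i) ?_ hc1).symm
        rw [← hi, ← Subgroup.orderOf_coe]
        exact pow_orderOf_eq_one _)
    have h2 : c * (u : X) = u * c := congrArg Subtype.val h1.eq
    refine Subtype.ext ?_
    have h3 := hθn 1 u
    rw [pow_one, pow_one] at h3
    rw [h3, h2, mul_inv_cancel_right]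
  obtain ⟨j, f, hj, hfs, hfθ, hfc, hffix, hcard⟩ := kernel_analysis hζ hpq ha hF hPp θ hθq hθ hinv
  refine ⟨(Nat.pow_le_pow_iff_right (Fact.out : p.Prime).one_lt).mp (hP ▸ hcard), ?_⟩
  set d := c ^ j with hd
  have hd1 : d ^ q ^ r = 1 := by rw [hd, ← pow_mul, mul_comm, pow_mul, hc1, one_pow]
  have hdord : orderOf d = q ^ r := by
    rw [hd, Nat.Coprime.orderOf_pow, hord]
    rw [hord]
    exact ((Fact.out : q.Prime).coprime_iff_not_dvd.mpr hj).pow_left r
  have hθjq : (θ ^ j) ^ (q ^ r) = 1 := by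
    rw [← pow_mul, mul_comm, pow_mul]
    refine (congrArg (· ^ j) ?_).trans (one_pow j)
    exact orderOf_dvd_iff_pow_eq_one.mp ((orderOf_dvd_of_pow_eq_one hθq).trans (dvd_pow_self q (by omega)))
  let ι : (↥P ⋊[powHom (θ ^ j) hθjq] Cyc (q ^ r)) →* X :=
    SemidirectProduct.lift P.subtype (powHom d hd1) fun g => MonoidHom.ext fun u => by
      show ((((θ ^ j) ^ (Multiplicative.toAdd g).val) u : P) : X) =
        d ^ (Multiplicative.toAdd g).val * (u : X) * (d ^ (Multiplicative.toAdd g).val)⁻¹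
      rw [← pow_mul, hθn, hd, ← pow_mul]
  have hιs : Function.Surjective ι := by
    rw [← MonoidHom.range_eq_top, eq_top_iff, ← htop, sup_le_iff, Subgroup.zpowers_le]
    refine ⟨fun u hu => ⟨SemidirectProduct.inl ⟨u, hu⟩, SemidirectProduct.lift_inl _ _ _ _⟩, ?_⟩
    have h1 : d ∈ ι.range :=
      ⟨SemidirectProduct.inr (Multiplicative.ofAdd 1), (SemidirectProduct.lift_inr _ _ _ _).trans (powHom_gen d hd1)⟩
    have h2 : Subgroup.zpowers d = Subgroup.zpowers c := by
      refine Subgroup.eq_of_le_of_card_ge (Subgroup.zpowers_le.mpr (pow_mem (Subgroup.mem_zpowers c) j)) ?_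
      rw [Nat.card_zpowers, Nat.card_zpowers, hdord, hord]
    exact Subgroup.zpowers_le.mpr h1 (h2 ▸ Subgroup.mem_zpowers c)
  haveI : Finite (↥P ⋊[powHom (θ ^ j) hθjq] Cyc (q ^ r)) := Finite.of_equiv _ SemidirectProduct.equivProd.symm
  have hιb : Function.Bijective ι := (Nat.bijective_iff_surjective_and_card ι).mpr ⟨hιs, by
    rw [SemidirectProduct.card, hP, hX, show Nat.card (Cyc (q ^ r)) = Nat.card (ZMod (q ^ r)) from rfl,
      Nat.card_zmod]⟩
  let e := MulEquiv.ofBijective ι hιb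
  let μ : (↥P ⋊[powHom (θ ^ j) hθjq] Cyc (q ^ r)) →* Base hζ hr :=
    SemidirectProduct.map f (MonoidHom.id _) (pow_left (θ ^ j) hθjq f _ _ hfθ)
  refine ⟨μ.comp e.symm.toMonoidHom, ?_, ?_, ?_⟩
  · refine Function.Surjective.comp (g := μ) (fun z => ?_) e.symm.surjective
    obtain ⟨u, hu⟩ := hfs z.left
    exact ⟨⟨u, z.right⟩, SemidirectProduct.ext hu rfl⟩
  · intro x hx
    have hx1 : μ (e.symm x) = 1 := hx
    have hr1 : (e.symm x).right = 1 := congrArg SemidirectProduct.right hx1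
    have hl : (e.symm x).left ∈ f.ker := congrArg SemidirectProduct.left hx1
    have hxu : x = ((e.symm x).left : X) := by
      conv_lhs => rw [← e.apply_symm_apply x, show e (e.symm x) = ι (e.symm x) from rfl,
        ← SemidirectProduct.inl_left_mul_inr_right (e.symm x), hr1, map_one, mul_one]
      exact SemidirectProduct.lift_inl _ _ _ _
    have hle : P ⊔ Subgroup.zpowers c ≤ Subgroup.centralizer {x} := by
      refine sup_le (fun u hu => ?_) (Subgroup.zpowers_le.mpr ?_)
      · rw [Subgroup.mem_centralizer_singleton_iff, hxu]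
        exact congrArg Subtype.val (Subgroup.mem_center_iff.mp (hfc hl) ⟨u, hu⟩)
      · rw [Subgroup.mem_centralizer_singleton_iff, hxu]
        have h1 := hθn 1 (e.symm x).left
        rw [pow_one, pow_one, hffix _ hl] at h1
        exact (eq_mul_inv_iff_mul_eq.mp h1).symm
    rw [htop] at hle
    exact Subgroup.mem_center_iff.mpr fun g => Subgroup.mem_centralizer_singleton_iff.mp (hle (Subgroup.mem_top g))
  · refine hPp.to_le fun x hx => ?_
    have hx1 : μ (e.symm x) = 1 := hx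
    have hr1 : (e.symm x).right = 1 := congrArg SemidirectProduct.right hx1
    rw [← e.apply_symm_apply x, show e (e.symm x) = ι (e.symm x) from rfl,
      ← SemidirectProduct.inl_left_mul_inr_right (e.symm x), hr1, map_one, mul_one, SemidirectProduct.lift_inl]
    exact (e.symm x).left.2

end CfsgLib.MaxSchmidt
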