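import Mathlib
import Cfsg.Prelude.Def_Transfer
import Cfsg.Agent.Lib.NilpotentCommute
import Cfsg.Agent.Lib.MaxSchmidt.Model
import Cfsg.Agent.Lib.MaxSchmidt.Group
import Cfsg.Agent.S0132

/-!
The universal minimal non-p-nilpotent group with given q-part.
-/

set_option autoImplicit false
set_option linter.unusedSectionVars false

namespace CfsgLib.MaxSchmidt

variable {p q a r : ℕ} [Fact p.Prime] [Fact q.Prime]
variable {F : Type*} [Field F] [Finite F] [CharP F p] {ζ : F}

theorem gen_pow_val (g : Cyc (q ^ r)) :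
    Multiplicative.ofAdd (1 : ZMod (q ^ r)) ^ (Multiplicative.toAdd g).val = g :=
  Multiplicative.toAdd.injective (by simp)

theorem cyc_pow_card (g : Cyc (q ^ r)) : g ^ (q ^ r) = 1 :=
  Multiplicative.toAdd.injective (by rw [toAdd_pow, toAdd_one, nsmul_eq_mul, ZMod.natCast_self, zero_mul])

/-- The group of maximal order. -/
abbrev Cover {P : Type*} [Group P] (κ : Kernel p q a F ζ P) (hn : κ.act ^ (q ^ r) = 1) : Type _ :=
  P ⋊[powHom κ.act hn] Cyc (q ^ r)

theorem cover_proper_nilpotent {P : Type*} [Group P] [Finite P] (hζ : orderOf ζ = q)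
    (ha : a = orderOf (p : ZMod q)) (ha0 : 0 < a) (hF : Nat.card F = p ^ a) (κ : Kernel p q a F ζ P)
    (hn : κ.act ^ (q ^ r) = 1) (K : Subgroup (Cover κ hn)) (hK : K ≠ ⊤) : Group.IsNilpotent K := by
  classical
  haveI : Group.IsNilpotent P := (IsPGroup.of_card κ.card_eq).isNilpotent
  by_cases h : ∀ v ∈ K, q ∣ (Multiplicative.toAdd v.right).val
  · have htriv : ∀ v ∈ K, powHom κ.act hn v.right = 1 := fun v hv => by
      obtain ⟨m, hm⟩ := h v hv
      rw [powHom_apply, hm, pow_mul, κ.act_pow, one_pow]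
    let f : ↥K →* P × Cyc (q ^ r) := MonoidHom.mk' (fun z => ((z : Cover κ hn).left, (z : Cover κ hn).right))
      fun z w => by
        show (((z : Cover κ hn) * w).left, ((z : Cover κ hn) * w).right) = _
        rw [SemidirectProduct.mul_left, SemidirectProduct.mul_right, htriv z z.2, MulAut.one_apply]
        rfl
    refine Subgroup.isNilpotent_of_ker_le_center f (fun z hz => ?_)
    have h1 : z = 1 := Subtype.ext (SemidirectProduct.ext (congrArg Prod.fst hz) (congrArg Prod.snd hz))
    rw [h1]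
    exact one_mem _
  · push Not at h
    obtain ⟨v, hv, hvq⟩ := h
    obtain ⟨u, hu⟩ : IsUnit (((Multiplicative.toAdd v.right).val : ZMod (q ^ r))) :=
      (ZMod.isUnit_iff_coprime _ _).mpr
        (((Fact.out : q.Prime).coprime_iff_not_dvd.mpr hvq).pow_left r).symm
    have hgen : ∃ w ∈ K, w.right = Multiplicative.ofAdd 1 := by
      refine ⟨v ^ ((↑u⁻¹ : ZMod (q ^ r))).val, K.pow_mem hv _, Multiplicative.toAdd.injective ?_⟩
      rw [← SemidirectProduct.rightHom_eq_right, map_pow, SemidirectProduct.rightHom_eq_right, toAdd_pow,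
        toAdd_ofAdd, nsmul_eq_mul, ZMod.natCast_zmod_val]
      have h2 : Multiplicative.toAdd v.right = (u : ZMod (q ^ r)) := by rw [hu, ZMod.natCast_zmod_val]
      rw [h2, Units.inv_mul]
    have hab := proper_abelian_or_small hζ ha ha0 hF κ hn K hK hgen
    letI : CommGroup ↥K := { (inferInstance : Group ↥K) with
      mul_comm := fun x y => Subtype.ext (hab x x.2 y y.2) }
    infer_instance

theorem base_not_nilpotent (hζ : orderOf ζ = q) (hpq : p ≠ q) (hr : 1 ≤ r) :
    ¬ Group.IsNilpotent (Base hζ hr) := by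
  intro h
  haveI : Finite (Base hζ hr) := Finite.of_equiv _ SemidirectProduct.equivProd.symm
  have h1 := CfsgLib.commute_of_nilpotent (H := Base hζ hr) (SemidirectProduct.inl (Multiplicative.ofAdd 1))
    (SemidirectProduct.inr (Multiplicative.ofAdd 1))
    (coprime_orders hpq (i := 1) (k := r)
      (by
        rw [pow_one, ← map_pow]
        have : (Multiplicative.ofAdd (1 : F)) ^ p = 1 :=
          Multiplicative.toAdd.injective (by rw [toAdd_pow, toAdd_ofAdd, toAdd_one, nsmul_eq_mul, CharP.cast_eq_zero, zero_mul])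
        rw [this, map_one])
      (by rw [← map_pow, cyc_pow_card, map_one]))
  have h2 := congrArg SemidirectProduct.left h1.eq
  rw [SemidirectProduct.mul_left, SemidirectProduct.mul_left, SemidirectProduct.left_inr, SemidirectProduct.left_inl,
    SemidirectProduct.right_inl, SemidirectProduct.right_inr, MonoidHom.map_one, MulAut.one_apply, powHom_gen, mul_one,
    one_mul, mulAut_apply, toAdd_ofAdd, mul_one] at h2
  rw [show ζ = 1 from (Multiplicative.ofAdd.injective h2).symm, orderOf_one] at hζ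
  exact (Fact.out : q.Prime).ne_one hζ.symm

theorem cover_no_complement {P : Type*} [Group P] [Finite P] (hζ : orderOf ζ = q) (hpq : p ≠ q)
    (κ : Kernel p q a F ζ P) (hn : κ.act ^ (q ^ r) = 1) : ¬ Cfsg.HasNormalPComplement p (Cover κ hn) := by
  haveI : Finite (Cover κ hn) := Finite.of_equiv _ SemidirectProduct.equivProd.symm
  rintro ⟨S, N, hN, hc⟩
  obtain ⟨k, hk⟩ := IsPGroup.iff_card.mp S.isPGroup'
  have hidx : N.index = p ^ k := by rw [hc.symm.index_eq_card, hk]
  set d : Cover κ hn := SemidirectProduct.inr (Multiplicative.ofAdd 1) with hd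
  have hdN : d ∈ N := by
    rw [← QuotientGroup.eq_one_iff]
    have h1 : (d : Cover κ hn ⧸ N) ^ p ^ k = 1 := by
      have h0 := pow_card_eq_one' (G := Cover κ hn ⧸ N) (x := (d : Cover κ hn ⧸ N))
      rwa [← Subgroup.index_eq_card, hidx] at h0
    have h2 : (d : Cover κ hn ⧸ N) ^ q ^ r = 1 := by
      rw [← QuotientGroup.mk_pow, hd, ← map_pow, cyc_pow_card, map_one, QuotientGroup.mk_one]
    have h3 := coprime_orders hpq h1 h2
    rwa [Nat.coprime_self, orderOf_eq_one_iff] at h3
  have hNp : ∀ z ∈ N, ∀ i : ℕ, z ^ p ^ i = 1 → z = 1 := by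
    intro z hz i hi
    have h1 : (orderOf z) ∣ Nat.card N := Subgroup.orderOf_dvd_natCard N hz
    have h2 : ¬ p ∣ Nat.card N := by
      rw [← hc.index_eq_card]
      exact S.not_dvd_index
    exact orderOf_eq_one_iff.mp (Nat.eq_one_of_dvd_coprimes
      (((Fact.out : p.Prime).coprime_iff_not_dvd.mpr h2).pow_left i) (orderOf_dvd_of_pow_eq_one hi) h1)
  obtain ⟨u, hu⟩ := κ.pr_surj (Multiplicative.ofAdd 1)
  have h1 : d * SemidirectProduct.inl u⁻¹ * d⁻¹ = SemidirectProduct.inl (κ.act u⁻¹) := by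
    rw [hd, ← map_inv SemidirectProduct.inr, ← SemidirectProduct.inl_aut, powHom_gen]
  have hmem : (SemidirectProduct.inl (u * κ.act u⁻¹) : Cover κ hn) ∈ N := by
    rw [map_mul, ← h1]
    have : SemidirectProduct.inl u * (d * SemidirectProduct.inl u⁻¹ * d⁻¹) =
        (SemidirectProduct.inl u * d * (SemidirectProduct.inl u : Cover κ hn)⁻¹) * d⁻¹ := by
      rw [map_inv]; group
    rw [this]
    exact N.mul_mem (hN.conj_mem d hdN _) (N.inv_mem hdN)
  obtain ⟨i, hi⟩ := IsPGroup.iff_orderOf.mp (IsPGroup.of_card κ.card_eq) (u * κ.act u⁻¹)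
  have h4 := hNp _ hmem i (by rw [← map_pow, ← hi, pow_orderOf_eq_one, map_one])
  have h5 : u * κ.act u⁻¹ = 1 := SemidirectProduct.inl_injective (h4.trans (map_one _).symm)
  rw [map_inv, mul_inv_eq_one] at h5
  have h6 := κ.pr_act u
  rw [← h5, hu, toAdd_ofAdd, mul_one] at h6
  rw [show ζ = 1 from (Multiplicative.ofAdd.injective h6).symm, orderOf_one] at hζ
  exact (Fact.out : q.Prime).ne_one hζ.symm

theorem cover_card {P : Type*} [Group P] [Finite P] (κ : Kernel p q a F ζ P) (hn : κ.act ^ (q ^ r) = 1) :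
    Nat.card (Cover κ hn) = p ^ (a + extra a) * q ^ r := by
  rw [SemidirectProduct.card, κ.card_eq, show Nat.card (Cyc (q ^ r)) = Nat.card (ZMod (q ^ r)) from rfl,
    Nat.card_zmod]

theorem cover_universal {P : Type*} [Group P] [Finite P] (hζ : orderOf ζ = q) (hpq : p ≠ q)
    (ha : a = orderOf (p : ZMod q)) (hF : Nat.card F = p ^ a) (hr : 1 ≤ r) (κ : Kernel p q a F ζ P)
    (hn : κ.act ^ (q ^ r) = 1) {X : Type*} [Group X] [Finite X]
    (hX1 : ¬ Cfsg.HasNormalPComplement p X) (hX2 : ∀ K : Subgroup X, K ≠ ⊤ → Cfsg.HasNormalPComplement p ↥K)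
    {t : ℕ} (hX : Nat.card X = p ^ t * q ^ r) :
    ∃ φ : Cover κ hn →* X, Function.Surjective φ ∧ φ.ker ≤ Subgroup.center (Cover κ hn) := by
  classical
  have ha0 := order_pos hpq ha
  haveI : Finite (Cover κ hn) := Finite.of_equiv _ SemidirectProduct.equivProd.symm
  haveI : Finite (Base hζ hr) := Finite.of_equiv _ SemidirectProduct.equivProd.symm
  obtain ⟨hminX, hnnX, hnormX⟩ := Cfsg.Agent.S0132.result hX1 hX2
  have hcop : ∀ i, (p ^ i).Coprime (q ^ r) := fun i =>
    ((Nat.coprime_primes (Fact.out : p.Prime) (Fact.out : q.Prime)).mpr hpq).pow i r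
  let PX : Sylow p X := default
  haveI := hnormX PX
  obtain ⟨k, hk⟩ := IsPGroup.iff_card.mp PX.isPGroup'
  have hPX : Nat.card (PX : Subgroup X) = p ^ t := by
    refine Nat.dvd_antisymm ((hk ▸ hcop k).dvd_of_dvd_mul_right (hX ▸ (PX : Subgroup X).card_subgroup_dvd_card)) ?_
    have h1 := (PX : Subgroup X).index_mul_card
    have h2 : (p ^ t).Coprime (PX : Subgroup X).index :=
      ((Fact.out : p.Prime).coprime_iff_not_dvd.mpr PX.not_dvd_index).pow_left t
    exact h2.dvd_of_dvd_mul_left (h1 ▸ hX ▸ dvd_mul_right _ _)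
  obtain ⟨-, χ, hχs, hχc, hχp⟩ := structure_hom hζ hpq ha hF hr hminX hnnX (PX : Subgroup X) hPX hX
  let π : Cover κ hn →* Base hζ hr :=
    SemidirectProduct.map κ.pr (MonoidHom.id _) (pow_left κ.act hn κ.pr _ _ κ.pr_act)
  have hπs : Function.Surjective π := fun z => by
    obtain ⟨u, hu⟩ := κ.pr_surj z.left
    exact ⟨⟨u, z.right⟩, SemidirectProduct.ext hu rfl⟩
  have hπk : ∀ z ∈ π.ker, z.left ∈ κ.pr.ker ∧ z.right = 1 := fun z hz =>
    ⟨congrArg SemidirectProduct.left hz, congrArg SemidirectProduct.right hz⟩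
  have hπc : π.ker ≤ Subgroup.center (Cover κ hn) := by
    intro z hz
    obtain ⟨hl, hr1⟩ := hπk z hz
    have hfix : ∀ n : ℕ, (κ.act ^ n) z.left = z.left := by
      intro n
      induction n with
      | zero => rfl
      | succ n ih => rw [pow_succ, MulAut.mul_apply, κ.act_ker _ hl, ih]
    refine Subgroup.mem_center_iff.mpr fun g => SemidirectProduct.ext ?_ ?_
    · rw [SemidirectProduct.mul_left, SemidirectProduct.mul_left, hr1, map_one, MulAut.one_apply, powHom_apply, hfix]
      exact Subgroup.mem_center_iff.mp (κ.ker_central hl) g.left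
    · rw [SemidirectProduct.mul_right, SemidirectProduct.mul_right, hr1, mul_one, one_mul]
  have hπp : ∀ z ∈ π.ker, ∃ i : ℕ, z ^ p ^ i = 1 := fun z hz => by
    obtain ⟨hl, hr1⟩ := hπk z hz
    have hz1 : z = SemidirectProduct.inl z.left := SemidirectProduct.ext rfl (by rw [hr1]; rfl)
    obtain ⟨i, hi⟩ := IsPGroup.of_card κ.card_eq z.left
    exact ⟨i, by rw [hz1, ← map_pow, hi, map_one]⟩
  -- a minimal subgroup of the fibre product mapping onto the base
  let H : Subgroup (Cover κ hn × X) :=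
    MonoidHom.eqLocus (π.comp (MonoidHom.fst _ _)) (χ.comp (MonoidHom.snd _ _))
  let ψ : Cover κ hn × X →* Base hζ hr := π.comp (MonoidHom.fst _ _)
  have hHon : H.map ψ = ⊤ := eq_top_iff.mpr fun b _ => by
    obtain ⟨g, rfl⟩ := hπs b
    obtain ⟨x, hx⟩ := hχs (π g)
    exact ⟨(g, x), hx.symm, rfl⟩
  obtain ⟨S, ⟨hSH, hSon⟩, hSmin⟩ := Set.exists_min_image {S : Subgroup (Cover κ hn × X) | S ≤ H ∧ S.map ψ = ⊤}
    (fun S => Nat.card S) (Set.toFinite _) ⟨H, le_rfl, hHon⟩
  have hSψ : ∀ z ∈ S, π z.1 = χ z.2 := fun z hz => hSH hz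
  let ψS : ↥S →* Base hζ hr := ψ.comp S.subtype
  have hψs : Function.Surjective ψS := fun b => by
    obtain ⟨z, hz, rfl⟩ := hSon.symm ▸ Subgroup.mem_top b
    exact ⟨⟨z, hz⟩, rfl⟩
  have hψc : ψS.ker ≤ Subgroup.center ↥S := fun z hz => by
    refine Subgroup.mem_center_iff.mpr fun w => Subtype.ext (Prod.ext ?_ ?_)
    · exact Subgroup.mem_center_iff.mp (hπc hz) (w : Cover κ hn × X).1
    · exact Subgroup.mem_center_iff.mp (hχc (MonoidHom.mem_ker.mpr ((hSψ z z.2).symm.trans hz)))
        (w : Cover κ hn × X).2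
  have hψp : IsPGroup p ψS.ker := fun z => by
    obtain ⟨i, hi⟩ := hπp _ (z.2 : π (z : ↥S).1.1 = 1)
    obtain ⟨l, hl⟩ := hχp ⟨(z : ↥S).1.2, MonoidHom.mem_ker.mpr ((hSψ _ (z : ↥S).2).symm.trans z.2)⟩
    refine ⟨i + l, Subtype.ext (Subtype.ext (Prod.ext ?_ ?_))⟩
    · show (z : ↥S).1.1 ^ p ^ (i + l) = 1
      have hi' : (z : ↥S).1.1 ^ p ^ i = 1 := hi
      rw [pow_add, pow_mul, hi', one_pow]
    · show (z : ↥S).1.2 ^ p ^ (i + l) = 1
      have hl' : (z : ↥S).1.2 ^ p ^ l = 1 := congrArg Subtype.val hl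
      rw [add_comm, pow_add, pow_mul, hl', one_pow]
  have hbase : ∀ B : Subgroup (Base hζ hr), B ≠ ⊤ → Group.IsNilpotent B := by
    intro B hB
    have h1 := cover_proper_nilpotent hζ ha ha0 hF κ hn (B.comap π) (fun h => hB (by
      rw [← Subgroup.map_comap_eq_self_of_surjective hπs B, h, Subgroup.map_top_of_surjective π hπs]))
    exact Group.nilpotent_of_surjective (π.subgroupComap B) (MonoidHom.subgroupComap_surjective_of_surjective π B hπs)
  have hnotS : ¬ Group.IsNilpotent S := fun h =>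
    base_not_nilpotent hζ hpq hr (Group.nilpotent_of_surjective ψS hψs)
  have hminS : ∀ T : Subgroup ↥S, T ≠ ⊤ → Group.IsNilpotent T := by
    intro T hT
    have hne : (T.map S.subtype).map ψ ≠ ⊤ := fun h => by
      have hle : T.map S.subtype ≤ S := Subgroup.map_subtype_le T
      have h1 := hSmin (T.map S.subtype) ⟨hle.trans hSH, h⟩
      have h2 : Nat.card (T.map S.subtype) = Nat.card T :=
        Nat.card_congr (T.equivMapOfInjective S.subtype S.subtype_injective).toEquiv.symm
      exact hT (Subgroup.eq_top_of_le_card T (h2 ▸ h1))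
    haveI := hbase _ hne
    let g : ↥T →* ↥((T.map S.subtype).map ψ) :=
      (ψS.comp T.subtype).codRestrict _ fun z => ⟨_, ⟨z.1, z.2, rfl⟩, rfl⟩
    refine Subgroup.isNilpotent_of_ker_le_center g (fun z hz => ?_)
    refine Subgroup.mem_center_iff.mpr fun w => Subtype.ext ?_
    exact Subgroup.mem_center_iff.mp (hψc (MonoidHom.mem_ker.mpr (congrArg Subtype.val hz))) (w : ↥S)
  -- its Sylow subgroup
  let R : Subgroup (Base hζ hr) := SemidirectProduct.rightHom.ker
  have hRidx : R.index = q ^ r := by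
    rw [Subgroup.index_ker, MonoidHom.range_eq_top.mpr SemidirectProduct.rightHom_surjective, Subgroup.card_top,
      show Nat.card (Cyc (q ^ r)) = Nat.card (ZMod (q ^ r)) from rfl, Nat.card_zmod]
  have hRp : IsPGroup p R := by
    intro z
    refine ⟨1, Subtype.ext ?_⟩
    have hz : (z : Base hζ hr) = SemidirectProduct.inl (z : Base hζ hr).left :=
      SemidirectProduct.ext rfl (show (z : Base hζ hr).right = 1 from z.2)
    rw [SubmonoidClass.coe_pow, hz, ← map_pow, pow_one]
    have : (z : Base hζ hr).left ^ p = 1 := Multiplicative.toAdd.injective (by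
      rw [toAdd_pow, toAdd_one, nsmul_eq_mul, CharP.cast_eq_zero, zero_mul])
    rw [this, map_one]; rfl
  obtain ⟨t', ht'⟩ := IsPGroup.iff_card.mp (hRp.comap_of_ker_isPGroup ψS hψp)
  have hcardS : Nat.card S = p ^ t' * q ^ r := by
    rw [← (R.comap ψS).index_mul_card, Subgroup.index_comap_of_surjective R hψs, hRidx, ht', mul_comm]
  obtain ⟨hbound, -⟩ := structure_hom hζ hpq ha hF hr hminS hnotS (R.comap ψS) ht' hcardS
  -- both projections are onto
  let fs : ↥S →* Cover κ hn := (MonoidHom.fst _ _).comp S.subtype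
  have hfs : Function.Surjective fs := by
    rw [← MonoidHom.range_eq_top]
    by_contra hne
    refine base_not_nilpotent hζ hpq hr ?_
    haveI := cover_proper_nilpotent hζ ha ha0 hF κ hn _ hne
    refine Group.nilpotent_of_surjective (π.comp fs.range.subtype) fun b => ?_
    obtain ⟨z, rfl⟩ := hψs b
    exact ⟨⟨fs z, z, rfl⟩, rfl⟩
  let sn : ↥S →* X := (MonoidHom.snd _ _).comp S.subtype
  have hsn : Function.Surjective sn := by
    rw [← MonoidHom.range_eq_top]
    by_contra hne
    refine base_not_nilpotent hζ hpq hr ?_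
    haveI := hminX _ hne
    refine Group.nilpotent_of_surjective (χ.comp sn.range.subtype) fun b => ?_
    obtain ⟨z, rfl⟩ := hψs b
    exact ⟨⟨sn z, z, rfl⟩, (hSψ z z.2).symm⟩
  have hle : Nat.card S ≤ Nat.card (Cover κ hn) := by
    rw [hcardS, cover_card]
    exact Nat.mul_le_mul_right _ (Nat.pow_le_pow_right (Fact.out : p.Prime).pos hbound)
  have hbij : Function.Bijective fs :=
    (Nat.bijective_iff_surjective_and_card fs).mpr ⟨hfs, le_antisymm hle (Nat.card_le_card_of_surjective fs hfs)⟩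
  refine ⟨sn.comp (MulEquiv.ofBijective fs hbij).symm.toMonoidHom, hsn.comp (MulEquiv.surjective _), fun g hg => ?_⟩
  refine hπc (MonoidHom.mem_ker.mpr ?_)
  have hg1 : sn ((MulEquiv.ofBijective fs hbij).symm g) = 1 := hg
  have h1 : fs ((MulEquiv.ofBijective fs hbij).symm g) = g := (MulEquiv.ofBijective fs hbij).apply_symm_apply g
  rw [← h1]
  show π ((MulEquiv.ofBijective fs hbij).symm g : Cover κ hn × X).1 = 1
  rw [hSψ _ ((MulEquiv.ofBijective fs hbij).symm g).2]
  show χ (sn ((MulEquiv.ofBijective fs hbij).symm g)) = 1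
  rw [hg1, map_one]

end CfsgLib.MaxSchmidt
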